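import Cfsg.Agent.Omega.IId.Big.Of
import Cfsg.Agent.Omega.IId.BigFour.Entry
import Cfsg.Agent.Omega.BTwo.Cen
import Cfsg.Agent.Omega.HT.LemE
import Cfsg.Agent.Omega.IId.LFour.CenO2
import Cfsg.Agent.Lib.GoldschmidtFusion

/-!
# WrBig, `q = 2`, CASE 1 (`T = N_S(V_i)` is Sylow in `C_G(v_i)`): the frame over `T` (#17249, #18272)

* `le_o2_of_chain` : the stabiliser of `O₂(C) ≥ Z(O₂(C)) ≥ 1` in `C` lies in `O₂(C)`;
* `zz_le_q` : `Ω₁Z(O₂(P)) ≤ Q_v` for all points `v` (first half of (ZV) of #17249);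
* `Sit M i` : the situation; `Sit.zc_le`, `Sit.exists_le` : `1 ≠ e ∈ Ω₁Z(T)` centralised by `X_i`: some `V_l`, `l ≠ i`,
  lies in every subgroup which contains `e` and is normalised by `N(line M i)`;
* `Sit.loc` (OT): `O₂(M)` centralises `V_i` for every 2-constrained `M ≥ ⟨T, D⟩`, `D ≤ N(V_i)` transitive on `V_i#`.
-/

set_option autoImplicit false
set_option linter.unusedSectionVars false

namespace Cfsg.Agent.Omega.IId.Big.Syl

open Subgroup Pointwise Cfsg Cfsg.Agent.ZN Cfsg.Agent.ZN.ChoiceBase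
open Cfsg.Agent.Omega.MinPar Cfsg.Agent.Omega.FFThm Cfsg.Agent.Omega.FrameMulti
open Cfsg.Agent.MinSimple.VModule (o2_isPGroup)
open Triangle (KK KK_conj KK_le_o2 mem_cent mem_KK mem_zpowers_iff_of_sq cent_conj o2_cent_conj)
open Supply

universe u

/-! ### The stabiliser of a chain -/

section chain

variable {G : Type u} [Group G]

/-- the stabiliser in `C` of the chain `Q ≥ Q ∩ C(Q) ≥ 1` -/
def chainStab (C Q : Subgroup G) : Subgroup G where
  carrier := {g | g ∈ C ∧ (∀ r ∈ Q, g * r * g⁻¹ * r⁻¹ ∈ Q ⊓ centralizer (Q : Set G)) ∧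
    ∀ z ∈ Q ⊓ centralizer (Q : Set G), g * z = z * g}
  one_mem' := ⟨one_mem _, fun r _ => by
    have e : (1 : G) * r * 1⁻¹ * r⁻¹ = 1 := by group
    rw [e]; exact one_mem _, fun z _ => by rw [one_mul, mul_one]⟩
  mul_mem' := by
    rintro a b ⟨ha, ha1, ha2⟩ ⟨hb, hb1, hb2⟩
    refine ⟨mul_mem ha hb, fun r hr => ?_, fun z hz => ?_⟩
    · have h1 := ha2 _ (hb1 r hr)
      have e : a * b * r * (a * b)⁻¹ * r⁻¹ = (b * r * b⁻¹ * r⁻¹) * (a * r * a⁻¹ * r⁻¹) := by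
        calc a * b * r * (a * b)⁻¹ * r⁻¹ = (a * (b * r * b⁻¹ * r⁻¹)) * (r * a⁻¹ * r⁻¹) := by group
          _ = (b * r * b⁻¹ * r⁻¹) * (a * r * a⁻¹ * r⁻¹) := by rw [h1]; group
      rw [e]
      exact mul_mem (hb1 r hr) (ha1 r hr)
    · calc a * b * z = a * (b * z) := by group
        _ = (a * z) * b := by rw [hb2 z hz]; group
        _ = z * (a * b) := by rw [ha2 z hz]; group
  inv_mem' := by
    rintro a ⟨ha, ha1, ha2⟩
    have h2 : ∀ z ∈ Q ⊓ centralizer (Q : Set G), a⁻¹ * z = z * a⁻¹ := fun z hz => by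
      rw [inv_mul_eq_iff_eq_mul, ← mul_assoc, ha2 z hz, mul_inv_cancel_right]
    refine ⟨inv_mem ha, fun r hr => ?_, h2⟩
    have h3 := h2 _ (inv_mem (ha1 r hr))
    have e : a⁻¹ * r * a⁻¹⁻¹ * r⁻¹ = (a * r * a⁻¹ * r⁻¹)⁻¹ := by
      calc a⁻¹ * r * a⁻¹⁻¹ * r⁻¹ = (a⁻¹ * (a * r * a⁻¹ * r⁻¹)⁻¹) * a := by group
        _ = (a * r * a⁻¹ * r⁻¹)⁻¹ := by rw [h3]; group
    rw [e]
    exact inv_mem (ha1 r hr)

/-- **The stabiliser of the chain `O₂(C) ≥ Z(O₂(C)) ≥ 1` in `C` lies in `O₂(C)`.** -/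
theorem le_o2_of_chain [Finite G] {C A : Subgroup G} (hC : C ⊓ centralizer (ZN.o2 C : Set G) ≤ ZN.o2 C)
    (hAC : A ≤ C)
    (h1 : ∀ a ∈ A, ∀ r ∈ ZN.o2 C, a * r * a⁻¹ * r⁻¹ ∈ ZN.o2 C ⊓ centralizer (ZN.o2 C : Set G))
    (h2 : ∀ a ∈ A, ∀ z ∈ ZN.o2 C ⊓ centralizer (ZN.o2 C : Set G), a * z = z * a) : A ≤ ZN.o2 C := by
  have hA : A ≤ chainStab C (ZN.o2 C) := fun a ha => ⟨hAC ha, h1 a ha, h2 a ha⟩
  refine hA.trans (le_o2 (fun x hx => hx.1) ?_ ?_)
  · refine BTwo.isPGroup_of_odd fun c hc hodd => ?_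
    have hcr : ∀ r ∈ ZN.o2 C, c * r = r * c := fun r hr =>
      BTwo.comm_of_odd hodd ((o2_isPGroup C).to_le inf_le_left) (hc.2.1 r hr) (hc.2.2 _ (hc.2.1 r hr))
    have hcQ : c ∈ ZN.o2 C := hC ⟨hc.1, mem_centralizer_iff.2 fun r hr => (hcr r hr).symm⟩
    obtain ⟨m, hm⟩ := o2_isPGroup C ⟨c, hcQ⟩
    have hm' : c ^ 2 ^ m = 1 := by simpa using congrArg Subtype.val hm
    have h4 : orderOf c ∣ 2 ^ m := orderOf_dvd_of_pow_eq_one hm'
    have h5 : Nat.Coprime (orderOf c) (2 ^ m) := Nat.Coprime.pow_right m (Nat.coprime_two_right.2 hodd)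
    exact orderOf_eq_one_iff.1 (Nat.dvd_one.1 (h5 ▸ Nat.dvd_gcd dvd_rfl h4))
  · apply norm_of
    intro c hc x hx
    have hcn := le_normalizer_o2 C hc
    have hcn' := inv_mem hcn
    have key : ∀ z ∈ ZN.o2 C ⊓ centralizer (ZN.o2 C : Set G), ∀ d ∈ normalizer (ZN.o2 C : Set G),
        d * z * d⁻¹ ∈ ZN.o2 C ⊓ centralizer (ZN.o2 C : Set G) := by
      intro z hz d hd
      refine ⟨(mem_normalizer_iff.1 hd z).1 hz.1, ?_⟩
      exact (mem_normalizer_iff.1 (BTwo.normalizer_le_normalizer_centralizer _ hd) z).1 hz.2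
    refine ⟨mul_mem (mul_mem hc hx.1) (inv_mem hc), fun r hr => ?_, fun z hz => ?_⟩
    · have hr' : c⁻¹ * r * c ∈ ZN.o2 C := by
        have := (mem_normalizer_iff.1 hcn' r).1 hr
        rwa [inv_inv] at this
      have h3 := key _ (hx.2.1 _ hr') c hcn
      have e : c * (x * (c⁻¹ * r * c) * x⁻¹ * (c⁻¹ * r * c)⁻¹) * c⁻¹ =
          c * x * c⁻¹ * r * (c * x * c⁻¹)⁻¹ * r⁻¹ := by group
      rwa [e] at h3
    · have h3 : c⁻¹ * z * c ∈ ZN.o2 C ⊓ centralizer (ZN.o2 C : Set G) := by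
        have := key z hz c⁻¹ hcn'
        rwa [inv_inv] at this
      have h4 := hx.2.2 _ h3
      calc c * x * c⁻¹ * z = c * (x * (c⁻¹ * z * c)) * c⁻¹ := by group
        _ = z * (c * x * c⁻¹) := by rw [h4]; group

end chain

/-! ### `Ω₁Z(O₂(P)) ≤ Q_v` -/

local notation "cz" v:max => centralizer ({v} : Set _)
local notation "qz" v:max => ZN.o2 (centralizer ({v} : Set _))

section frame

variable {G : Type u} [Group G] [Finite G] {F : Type} [Field F] [Finite F] [CharP F 2] {S : Sylow 2 G}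
  {P : Subgroup G} {k : ℕ} {M : NatK F (S : Subgroup G) P (zl (S : Subgroup G) P) ⊥ k}

/-- `Q_v ≤ P` -/
theorem q_le_P (hP : IsParS (S : Subgroup G) P) (hC : CC M) (hF : Nat.card F = 2) {i : Fin k} {v : G}
    (hv : v ∈ fac M i) (hv1 : v ≠ 1) : qz v ≤ P := by
  obtain ⟨v₀, hv₀, hv₀1⟩ := exists_line M i
  obtain ⟨g, hg, hgv, -⟩ := exists_P_conj hP.isLoc.le (line_le M i hv₀) hv₀1 hv hv1
  intro x hx
  have h1 : g⁻¹ * x * g ∈ qz v₀ := by
    have h0 : g⁻¹ * x * g⁻¹⁻¹ ∈ qz (g⁻¹ * v * g⁻¹⁻¹) := by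
      rw [o2_cent_conj]
      exact ⟨x, hx, rfl⟩
    have e : g⁻¹ * v * g⁻¹⁻¹ = v₀ := by rw [← hgv]; group
    rwa [e, inv_inv] at h0
  have h2 : g⁻¹ * x * g ∈ P := hP.isLoc.le (stab_le M i ((o2_le_stab hP hC hF hv₀ hv₀1).1 h1))
  have e : x = g * (g⁻¹ * x * g) * g⁻¹ := by group
  rw [e]
  exact mul_mem (mul_mem hg h2) (inv_mem hg)

/-- an element of `P` which commutes with all factors centralises `Ω₁Z(O₂(P))` -/
theorem comm_zz (hc : IsCharacteristicTwoType G) (hP : IsParS (S : Subgroup G) P) {x z : G} (hx : x ∈ P)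
    (hxV : ∀ v ∈ zl (S : Subgroup G) P, x * v = v * x) (hz : z ∈ zc (o2 P)) : x * z = z * x := by
  have h1 : x ∈ P ⊓ centralizer (zl (S : Subgroup G) P : Set G) :=
    ⟨hx, mem_centralizer_iff.2 fun v hv => (hxV v hv).symm⟩
  exact (mem_centralizer_iff.1 (LFour.le_centralizer_zc_o2 hc S hP h1) z hz).symm

/-- commuting with `V` is commuting with all factors -/
theorem comm_zl {x : G} (h : ∀ l, ∀ v ∈ fac M l, x * v = v * x) {v : G} (hv : v ∈ zl (S : Subgroup G) P) :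
    x * v = v * x := by
  have h1 : (⨆ l, fac M l) ≤ centralizer ({x} : Set G) :=
    iSup_le fun l w hw => mem_cent.2 (h l w hw).symm
  exact (mem_cent.1 (h1 (fac_le_iSup M hv))).symm

/-- **`Ω₁Z(O₂(P)) ≤ Q_v`** -/
theorem zz_le_q (hc : IsCharacteristicTwoType G) (hP : IsParS (S : Subgroup G) P) (hC : CC M)
    (hF : Nat.card F = 2) (hfr : Fr (S : Subgroup G) (fac M)) {i : Fin k} {v : G}
    (hv : v ∈ fac M i) (hv1 : v ≠ 1) : zc (o2 P) ≤ qz v := by
  have hfact : Fact (Nat.Prime 2) := ⟨Nat.prime_two⟩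
  have hzn : P ≤ normalizer (zc (o2 P) : Set G) :=
    (le_normalizer_o2 P).trans (MinSimple.VModule.normalizer_le_normalizer_zc _)
  have hVz : zl (S : Subgroup G) P ≤ zc (o2 P) := hP.isLoc.zl_le S hc
  have hzab := MinSimple.VModule.zc_comm (o2 P)
  have hzsq : ∀ z ∈ zc (o2 P), z * z = 1 := fun z hz => by
    rw [← pow_two]; exact MinSimple.VModule.zc_sq _ z hz
  have hQP := q_le_P hP hC hF hv hv1
  have hlV : ∀ l, fac M l ≤ zl (S : Subgroup G) P := fac_le M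
  -- `ZZ ≤ C(v)`
  have hzC : zc (o2 P) ≤ cz v := fun z hz => mem_cent.2 (hzab z hz v (hVz (hlV i hv)))
  -- `a ∈ KK v` moves `b`
  obtain ⟨b, hb, hb1, hvb⟩ := hfr.exists_other (i := i) v
  obtain ⟨a, ha, hab⟩ := hfr.move hv hb hv1 hb1 hvb
  have haQ : a ∈ qz v := hfr.KK_le_q hv hv1 ha
  -- the action of `Q_v` on `b`
  have hbK : b ∈ KK v := zl_le_KK hP hC hF hv hv1 (hlV i hb)
  have hact : ∀ r ∈ qz v, r * b * r⁻¹ = b ∨ r * b * r⁻¹ = v * b := by
    intro r hr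
    rcases hfr.KK_act hv hbK hr with h1 | h1
    · left
      have h2 := comm_of_conj h1
      rw [← h2]; group
    · right
      -- `b r b⁻¹ = v r`
      have h2 : b * r = v * r * b := by rw [← h1]; group
      have h3 : r * v = v * r := (mem_cent.1 ((o2_le _) hr))
      have h4 : v * v = 1 := hfr.sq i v hv
      have h5 : r * b = v * (b * r) := by
        rw [h2]
        calc r * b = (v * v) * r * b := by rw [h4, one_mul]
          _ = v * (v * r * b) := by group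
      rw [h5]; group
  -- commuting with `b` gives commuting with `V`
  have hbV : ∀ r ∈ qz v, r * b = b * r → ∀ w ∈ zl (S : Subgroup G) P, r * w = w * r := by
    intro r hr hrb w hw
    refine comm_zl (M := M) (fun l x hx => ?_) hw
    by_cases hl : l = i
    · subst hl
      have h3 : r * v = v * r := (mem_cent.1 ((o2_le _) hr))
      rcases hfr.cases4 hv hb hv1 hb1 hvb hx with rfl | rfl | rfl | rfl
      · simp
      · exact h3
      · exact hrb
      · calc r * (v * b) = (r * v) * b := by group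
          _ = v * (r * b) := by rw [h3]; group
          _ = v * b * r := by rw [hrb]; group
    · exact hfr.Qc i l hl v hv hv1 r hr x hx
  have hr2 : ∀ r ∈ qz v, (∀ z ∈ zc (o2 P), r * z = z * r) ∨ ∀ z ∈ zc (o2 P), r * a * z = z * (r * a) := by
    intro r hr
    rcases hact r hr with h1 | h1
    · left
      intro z hz
      exact comm_zz hc hP (hQP hr) (hbV r hr (comm_of_conj h1)) hz
    · right
      intro z hz
      have hra : r * a ∈ qz v := mul_mem hr haQ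
      refine comm_zz hc hP (hQP hra) (hbV _ hra ?_) hz
      apply comm_of_conj
      have h3 : r * v = v * r := (mem_cent.1 ((o2_le _) hr))
      have h4 : v * v = 1 := hfr.sq i v hv
      calc r * a * b * (r * a)⁻¹ = r * (a * b * a⁻¹) * r⁻¹ := by group
        _ = (r * v) * b * r⁻¹ := by rw [hab]; group
        _ = v * (r * b * r⁻¹) := by rw [h3]; group
        _ = (v * v) * b := by rw [h1]; group
        _ = b := by rw [h4, one_mul]
  have haa : ∀ z ∈ zc (o2 P), a * a * z = z * (a * a) := by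
    intro z hz
    rcases hr2 a haQ with h1 | h1
    · calc a * a * z = a * (a * z) := by group
        _ = a * (z * a) := by rw [h1 z hz]
        _ = (a * z) * a := by group
        _ = (z * a) * a := by rw [h1 z hz]
        _ = z * (a * a) := by group
    · exact h1 z hz
  have haz : ∀ z ∈ zc (o2 P), a * z * a⁻¹ ∈ zc (o2 P) := fun z hz => conj_mem hzn (hQP haQ) hz
  -- `[a, z]` commutes with `a`
  have hat : ∀ z ∈ zc (o2 P), a * (a * z * a⁻¹ * z⁻¹) = a * z * a⁻¹ * z⁻¹ * a := by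
    intro z hz
    have h1 := haa z hz
    have h2 : a * (a * z * a⁻¹) * a⁻¹ = z := by
      calc a * (a * z * a⁻¹) * a⁻¹ = (a * a * z) * (a * a)⁻¹ := by group
        _ = z := by rw [h1]; group
    have h3 : a * (a * z * a⁻¹ * z⁻¹) * a⁻¹ = a * z * a⁻¹ * z⁻¹ := by
      have h5 : (a * z * a⁻¹)⁻¹ = a * z * a⁻¹ := inv_eq_of_mul_eq_one_left (hzsq _ (haz z hz))
      have h6 : z⁻¹ = z := inv_eq_of_mul_eq_one_left (hzsq _ hz)
      calc a * (a * z * a⁻¹ * z⁻¹) * a⁻¹ = (a * (a * z * a⁻¹) * a⁻¹) * (a * z * a⁻¹)⁻¹ := by group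
        _ = z * (a * z * a⁻¹) := by rw [h2, h5]
        _ = (a * z * a⁻¹) * z := hzab _ hz _ (haz z hz)
        _ = a * z * a⁻¹ * z⁻¹ := by rw [h6]
    exact comm_of_conj h3
  -- `[a, z] ∈ Z(Q_v)`
  have htZ : ∀ z ∈ zc (o2 P), a * z * a⁻¹ * z⁻¹ ∈ qz v ⊓ centralizer ((qz v : Subgroup G) : Set G) := by
    intro z hz
    have ht : a * z * a⁻¹ * z⁻¹ ∈ zc (o2 P) := mul_mem (haz z hz) (inv_mem hz)
    have hcen : a * z * a⁻¹ * z⁻¹ ∈ centralizer ((qz v : Subgroup G) : Set G) := by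
      rw [mem_centralizer_iff]
      intro r hr
      rcases hr2 r hr with h1 | h1
      · exact h1 _ ht
      · have h2 := h1 _ ht
        have h3 := hat z hz
        -- `r a t = t r a`, `a t = t a`
        have h4 : r * (a * z * a⁻¹ * z⁻¹) * a = a * z * a⁻¹ * z⁻¹ * r * a := by
          calc r * (a * z * a⁻¹ * z⁻¹) * a = r * (a * z * a⁻¹ * z⁻¹ * a) := by group
            _ = r * a * (a * z * a⁻¹ * z⁻¹) := by rw [← h3]; group
            _ = a * z * a⁻¹ * z⁻¹ * r * a := by rw [h2]; group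
        exact mul_right_cancel h4
    exact ⟨hfr.c2 i v hv hv1 ⟨hzC ht, hcen⟩, hcen⟩
  refine le_o2_of_chain (hfr.c2 i v hv hv1) hzC (fun z hz r hr => ?_) (fun z hz y hy => ?_)
  · rcases hr2 r hr with h1 | h1
    · have e : z * r * z⁻¹ * r⁻¹ = 1 := by rw [← h1 z hz]; group
      rw [e]
      exact one_mem _
    · have h2 := h1 z hz
      -- `z r z⁻¹ r⁻¹ = (r a) (a⁻¹ z a z⁻¹) (r a)⁻¹ .. `
      have h3 : z * r * z⁻¹ * r⁻¹ = r * (a * z * a⁻¹ * z⁻¹) * r⁻¹ := by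
        calc z * r * z⁻¹ * r⁻¹ = (z * (r * a)) * a⁻¹ * z⁻¹ * r⁻¹ := by group
          _ = r * (a * z * a⁻¹ * z⁻¹) * r⁻¹ := by rw [← h2]; group
      rw [h3]
      have h4 := htZ z hz
      have h5 : r * (a * z * a⁻¹ * z⁻¹) * r⁻¹ = a * z * a⁻¹ * z⁻¹ := by
        rw [mem_centralizer_iff.1 h4.2 r hr, mul_inv_cancel_right]
      rw [h5]
      exact h4
  · -- `y ∈ Z(Q_v)` commutes with `V ≤ Q_v`
    have h1 : ∀ w ∈ zl (S : Subgroup G) P, y * w = w * y := fun w hw => by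
      have hwQ : w ∈ qz v := hfr.KK_le_q hv hv1 (zl_le_KK hP hC hF hv hv1 hw)
      exact (mem_centralizer_iff.1 hy.2 w hwQ).symm
    exact (comm_zz hc hP (hQP hy.1) h1 hz).symm

/-- `O₂(P) ≤ N_S(V_i)` -/
theorem o2_le_stab' (hc : IsCharacteristicTwoType G) (hP : IsParS (S : Subgroup G) P) (i : Fin k) :
    o2 P ≤ stab M i := by
  have hVz : zl (S : Subgroup G) P ≤ zc (o2 P) := hP.isLoc.zl_le S hc
  refine le_inf (hP.isLoc.o2_le S) (norm_of fun x hx v hv => ?_)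
  rw [((ZN.mem_zc.1 (hVz (fac_le M i hv))).2.1 x hx), mul_inv_cancel_right]
  exact hv

/-- a subgroup `B` with `O₂(P) ≤ B ≤ P` has `Ω₁Z(B) ≤ Ω₁Z(O₂(P))` -/
theorem zc_le_zz (hc : IsCharacteristicTwoType G) (hP : IsParS (S : Subgroup G) P) {B : Subgroup G}
    (hB : o2 P ≤ B) (hBP : B ≤ P) : zc B ≤ zc (o2 P) := by
  intro x hx
  obtain ⟨h1, h2, h3⟩ := ZN.mem_zc.1 hx
  have h4 : x ∈ o2 P := IsLoc.char2 S hc hP.isLoc
    ⟨hBP h1, mem_centralizer_iff.2 fun y hy => h2 y (hB hy)⟩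
  exact ZN.mem_zc.2 ⟨h4, fun y hy => h2 y (hB hy), h3⟩

/-- the product of `V_l` and `V^l` -/
theorem exists_split (hfr : Fr (S : Subgroup G) (fac M)) (l : Fin k) {z : G} (hz : z ∈ ⨆ l, fac M l) :
    ∃ a ∈ fac M l, ∃ b ∈ Vo (fac M) l, z = a * b := by
  classical
  have h1 : (⨆ l, fac M l) ≤ fac M l ⊔ Vo (fac M) l := by
    refine iSup_le fun j => ?_
    by_cases hj : j = l
    · rw [hj]; exact le_sup_left
    · exact (le_Vo (V := fac M) hj).trans le_sup_right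
  have h2 : Vo (fac M) l ≤ normalizer (fac M l : Set G) := by
    refine norm_of fun b hb a ha => ?_
    have h3 : b * a = a * b := (cent_of_closure (x := a) (y := b) (by
      rintro y ⟨j, -, hy⟩
      exact hfr.comm l j a ha y hy) hb).symm
    rw [h3, mul_inv_cancel_right]
    exact ha
  have h3 := h1 hz
  rw [← SetLike.mem_coe, coe_mul_of_right_le_normalizer_left _ _ h2] at h3
  obtain ⟨a, ha, b, hb, rfl⟩ := h3
  exact ⟨a, ha, b, hb, rfl⟩

/-- **`C_{ZZ}(all X_l) = 1`** -/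
theorem eq_one_of_all (hP : IsParS (S : Subgroup G) P)
    (hfr : Fr (S : Subgroup G) (fac M)) {z : G} (hz : z ∈ zc (o2 P))
    (h : ∀ l, ∀ v ∈ fac M l, v ≠ 1 → ∀ g ∈ KK v, g * z = z * g) : z = 1 := by
  have hSP : (S : Subgroup G) ≤ P := hP.isLoc.le
  have hzn : P ≤ normalizer (zc (o2 P) : Set G) :=
    (le_normalizer_o2 P).trans (MinSimple.VModule.normalizer_le_normalizer_zc _)
  have hzsq : ∀ z ∈ zc (o2 P), z * z = 1 := fun z hz => by
    rw [← pow_two]; exact MinSimple.VModule.zc_sq _ z hz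
  let C0 : Subgroup G :=
    { carrier := {z | z ∈ zc (o2 P) ∧ ∀ l, ∀ v ∈ fac M l, v ≠ 1 → ∀ g ∈ KK v, g * z = z * g}
      one_mem' := ⟨one_mem _, fun _ _ _ _ g _ => by rw [mul_one, one_mul]⟩
      mul_mem' := fun {a b} ha hb => ⟨mul_mem ha.1 hb.1, fun l v hv hv1 g hg => by
        rw [← mul_assoc, ha.2 l v hv hv1 g hg, mul_assoc, hb.2 l v hv hv1 g hg, mul_assoc]⟩
      inv_mem' := fun {a} ha => ⟨inv_mem ha.1, fun l v hv hv1 g hg => by
        have := ha.2 l v hv hv1 g hg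
        rw [eq_comm, inv_mul_eq_iff_eq_mul, ← mul_assoc, ← this, mul_inv_cancel_right]⟩ }
  by_contra hz1
  have hne : C0 ≠ ⊥ := fun h0 => hz1 (by
    have h1 : z ∈ C0 := ⟨hz, h⟩
    rwa [h0, mem_bot] at h1)
  have hS : (S : Subgroup G) ≤ normalizer (C0 : Set G) := by
    refine norm_of fun s hs y hy => ?_
    refine ⟨conj_mem hzn (hSP hs) hy.1, fun l v hv hv1 g hg => ?_⟩
    obtain ⟨j, hj⟩ := hfr.perm s⁻¹ (inv_mem hs) l
    have h1 : s⁻¹ * v * s ∈ fac M j := by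
      have := (hj v).1 hv
      rwa [inv_inv] at this
    have h2 : s⁻¹ * v * s ≠ 1 := fun h0 => hv1 (by
      calc v = s * (s⁻¹ * v * s) * s⁻¹ := by group
        _ = 1 := by rw [h0]; group)
    have h3 : s⁻¹ * g * s ∈ KK (s⁻¹ * v * s) := by
      have := KK_conj (h := s⁻¹) hg
      rwa [inv_inv] at this
    have h4 := hy.2 j _ h1 h2 _ h3
    calc g * (s * y * s⁻¹) = s * ((s⁻¹ * g * s) * y) * s⁻¹ := by group
      _ = s * y * s⁻¹ * g := by rw [h4]; group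
  obtain ⟨x, hx, hx1, hxS⟩ := Half.exists_fixed
    (isPGroup_of_sq (A := C0) fun y (hy : y ∈ zc (o2 P) ∧ _) => hzsq y hy.1) hne hfr.S2 hS
  have hxz : x ∈ zc (S : Subgroup G) := ZN.mem_zc.2 ⟨hP.isLoc.o2_le S (zc_le _ hx.1), fun t ht =>
    comm_of_conj (hxS t ht), by rw [pow_two]; exact hzsq x hx.1⟩
  -- all components are trivial
  have hxV : x ∈ ⨆ l, fac M l := hfr.zS hxz
  have hcomp : ∀ l, x ∈ Vo (fac M) l := by
    intro l
    obtain ⟨a, ha, b, hb, hab⟩ := exists_split hfr l hxV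
    by_cases ha1 : a = 1
    · rw [hab, ha1, one_mul]
      exact hb
    exfalso
    obtain ⟨v, hv, hv1, hav⟩ := hfr.exists_other (i := l) a
    obtain ⟨g, hg, hga⟩ := hfr.move hv ha hv1 ha1 (Ne.symm hav)
    have h1 := hx.2 l v hv hv1 g hg
    have h2 : g * b = b * g := hfr.Vo_cent hv hv1 hb (hfr.KK_le_q hv hv1 hg)
    have h3 : g * a * g⁻¹ = a := by
      have h4 : g * (a * b) = a * b * g := by rw [← hab]; exact h1
      have h5 : g * a * b = a * g * b := by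
        calc g * a * b = g * (a * b) := by group
          _ = a * (b * g) := by rw [h4]; group
          _ = a * g * b := by rw [← h2]; group
      have h6 := mul_right_cancel h5
      rw [h6, mul_inv_cancel_right]
    rw [h3] at hga
    exact hv1 (mul_eq_right.1 hga.symm)
  have hxl : x ∈ zl (S : Subgroup G) P := (iSup_le fun l => fac_le M l : (⨆ l, fac M l) ≤ _) hxV
  refine hx1 ((e_eq_zero M hxl).1 (funext fun l => ?_))
  have h1 : Vo (fac M) l ≤ part M {l}ᶜ :=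
    Vo_le fun j hj => part_mono M (Set.singleton_subset_iff.2 hj)
  exact (h1 (hcomp l)).2 l (fun h => h rfl)

/-! ### CASE 1 -/

/-- WrBig, `q = 2`, CASE 1: `T = N_S(V_i)` is a Sylow 2-subgroup of `C_G(v_i)`. -/
structure Sit (M : NatK F (S : Subgroup G) P (zl (S : Subgroup G) P) ⊥ k) (i : Fin k) : Prop where
  c2 : IsCharacteristicTwoType G
  par : IsParS (S : Subgroup G) P
  cc : CC M
  two : Nat.card F = 2
  k2 : 2 < k
  fr : Fr (S : Subgroup G) (fac M)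
  odd : ¬ 2 ∣ (stab M i).relIndex (normalizer (line M i : Set G))

namespace Sit

variable {i : Fin k} (h : Sit M i)
include h

theorem SP : (S : Subgroup G) ≤ P := h.par.isLoc.le

theorem T2 : IsPGroup 2 (stab M i) := S.isPGroup'.to_le (stab_le M i)

theorem TP : stab M i ≤ P := (stab_le M i).trans h.SP

theorem zc_le : zc (stab M i) ≤ zc (o2 P) := zc_le_zz h.c2 h.par (o2_le_stab' h.c2 h.par i) h.TP

theorem zz_q {l : Fin k} {v : G} (hv : v ∈ fac M l) (hv1 : v ≠ 1) : zc (o2 P) ≤ qz v :=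
  zz_le_q h.c2 h.par h.cc h.two h.fr hv hv1

theorem norm_line {v : G} (hv : v ∈ line M i) (hv1 : v ≠ 1) :
    normalizer (line M i : Set G) = cz v := normalizer_line_eq M h.two hv hv1

/-- `X_l ≤ N(line M i)` for `l ≠ i` -/
theorem KK_le_norm {l : Fin k} (hl : l ≠ i) {v : G} (hv : v ∈ fac M l) (hv1 : v ≠ 1) :
    KK v ≤ normalizer (line M i : Set G) := by
  obtain ⟨w, hw, hw1⟩ := exists_line M i
  rw [h.norm_line hw hw1]
  exact h.fr.KK_le hl.symm hv hv1 (line_le M i hw)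

/-- `1 ≠ e ∈ Ω₁Z(T)` centralised by `X_i`: some `V_l`, `l ≠ i`, lies in every subgroup which contains `e` and is
normalised by `N(line M i)`. -/
theorem exists_le {e : G} (he : e ∈ zc (o2 P)) (he1 : e ≠ 1)
    (hX : ∀ v ∈ fac M i, v ≠ 1 → ∀ g ∈ KK v, g * e = e * g) :
    ∃ l, l ≠ i ∧ ∀ Λ : Subgroup G, normalizer (line M i : Set G) ≤ normalizer (Λ : Set G) → e ∈ Λ →
      fac M l ≤ Λ := by
  by_contra hcon
  apply he1
  refine eq_one_of_all h.par h.fr he fun l v hv hv1 g hg => ?_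
  by_cases hl : l = i
  · subst hl
    exact hX v hv hv1 g hg
  by_contra hge
  refine hcon ⟨l, hl, fun Λ hΛ heΛ => ?_⟩
  have hv' : v ∈ Λ := by
    have h1 : g * e * g⁻¹ ∈ Λ := conj_mem hΛ (h.KK_le_norm hl hv hv1 hg) heΛ
    rcases h.fr.KK_act hv hg (h.zz_q hv hv1 he) with h2 | h2
    · exact (hge (comm_of_conj h2)).elim
    · rw [h2] at h1
      exact (mul_mem_cancel_right heΛ).1 h1
  intro w hw
  by_cases hw1 : w = 1
  · rw [hw1]; exact one_mem _
  by_cases hwv : w = v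
  · rw [hwv]; exact hv'
  obtain ⟨g', hg', h3⟩ := h.fr.move hw hv hw1 hv1 hwv
  have h4 : g' * v * g'⁻¹ ∈ Λ := conj_mem hΛ (h.KK_le_norm hl hw hw1 hg') hv'
  rw [h3] at h4
  exact (mul_mem_cancel_right hv').1 h4

/-- **(OT)** of #17249: `O₂(H)` centralises `V_i` for every `H ≥ ⟨T, D⟩`, `D ≤ N(V_i)` transitive on `V_i#`. -/
theorem ot {H D : Subgroup G} (hTH : stab M i ≤ H) (hDH : D ≤ H) (hDV : D ≤ normalizer (fac M i : Set G))
    (hD : ∀ v ∈ fac M i, ∀ w ∈ fac M i, v ≠ 1 → w ≠ 1 → ∃ d ∈ D, d * v * d⁻¹ = w) :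
    ZN.o2 H ≤ centralizer (fac M i : Set G) := by
  have hfact : Fact (Nat.Prime 2) := ⟨Nat.prime_two⟩
  obtain ⟨v, hv, hv1⟩ := exists_line M i
  have hvi := line_le M i hv
  have hO2 : IsPGroup 2 (ZN.o2 H) := o2_isPGroup H
  have hHO := le_normalizer_o2 H
  -- `O ∩ N(V_i)` centralises `V_i`
  have hVT : fac M i ≤ stab M i :=
    ((fac_le M i).trans (h.par.isLoc.zl_le S h.c2)).trans ((MinSimple.VModule.zc_le _).trans
      (o2_le_stab' h.c2 h.par i))
  have hN : ZN.o2 H ⊓ normalizer (fac M i : Set G) ≤ centralizer (fac M i : Set G) := by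
    set N := ZN.o2 H ⊓ normalizer (fac M i : Set G) with hNdef
    have hN2 : IsPGroup 2 N := hO2.to_le inf_le_left
    have hDN : D ≤ normalizer (N : Set G) := by
      refine norm_of fun d hd x hx => ⟨conj_mem hHO (hDH hd) hx.1, ?_⟩
      exact mul_mem (mul_mem (hDV hd) hx.2) ((normalizer (fac M i : Set G)).inv_mem (hDV hd))
    have hV2 : IsPGroup 2 (fac M i) := isPGroup_of_sq fun x hx => h.fr.sq i x hx
    have hne : fac M i ≠ ⊥ := fun h0 => hv1 (by rwa [h0, mem_bot] at hvi)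
    obtain ⟨w, hw, hw1, hwN⟩ := Half.exists_fixed hV2 hne hN2 inf_le_right
    intro x hx
    rw [mem_centralizer_iff]
    intro u hu
    by_cases hu1 : u = 1
    · rw [hu1, one_mul, mul_one]
    obtain ⟨d, hd, hdu⟩ := hD w hw u hu hw1 hu1
    have h1 : d⁻¹ * x * d ∈ N := by
      have := conj_mem hDN (inv_mem hd) hx
      rwa [inv_inv] at this
    have h2 := comm_of_conj (hwN _ h1)
    rw [← hdu]
    calc d * w * d⁻¹ * x = d * (w * (d⁻¹ * x * d)) * d⁻¹ := by group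
      _ = x * (d * w * d⁻¹) := by rw [← h2]; group
  -- `O_0 := O ∩ C(v)` is contained in `T` and centralises `V_i`
  set O₀ := ZN.o2 H ⊓ centralizer (fac M i : Set G) with hO₀
  have hTn : stab M i ≤ normalizer (fac M i : Set G) := stab_normalizes M i
  have hTO₀ : stab M i ≤ normalizer (O₀ : Set G) := by
    refine norm_of fun t ht x hx => ⟨conj_mem hHO (hTH ht) hx.1, ?_⟩
    exact (mem_normalizer_iff.1 (BTwo.normalizer_le_normalizer_centralizer _ (hTn ht)) x).1 hx.2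
  have hT0 : ∀ x ∈ ZN.o2 H, x * v = v * x → x ∈ O₀ ∧ x ∈ stab M i := by
    have hE2 : IsPGroup 2 (ZN.o2 H ⊓ cz v : Subgroup G) := hO2.to_le inf_le_left
    have hTv : stab M i ≤ cz v := fun t ht => mem_cent.2 (stab_comm_line M h.SP h.two hv ht)
    have hTE : stab M i ≤ normalizer ((ZN.o2 H ⊓ cz v : Subgroup G) : Set G) := by
      refine norm_of fun t ht x hx => ⟨conj_mem hHO (hTH ht) hx.1, ?_⟩
      exact mul_mem (mul_mem (hTv ht) hx.2) ((cz v).inv_mem (hTv ht))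
    have hle : ZN.o2 H ⊓ cz v ≤ stab M i := by
      refine HT.LemE.le_of_odd h.T2 hTv ?_ hE2 inf_le_right hTE
      rw [← h.norm_line hv hv1]
      exact h.odd
    intro x hx hxv
    have h1 : x ∈ stab M i := hle ⟨hx, mem_cent.2 hxv⟩
    exact ⟨⟨hx, hN ⟨hx, hTn h1⟩⟩, h1⟩
  have hO₀T : O₀ ≤ stab M i := fun x hx => (hT0 x hx.1 (mem_centralizer_iff.1 hx.2 v hvi).symm).2
  -- suppose `O > O_0`
  by_contra hcon
  have hlt : O₀ < ZN.o2 H := by
    refine lt_of_le_of_ne inf_le_left fun e => hcon ?_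
    rw [← e]
    exact inf_le_right
  have hlt2 := Lib.GoldschmidtFusion.lt_inf_normalizer hO2 hlt
  obtain ⟨w, hw, hwO₀, hwT⟩ := SideOf.exists_fixed_mod (T := stab M i) (not_le_of_gt hlt2) inf_le_right
    (hO2.to_le inf_le_left) h.T2 hTO₀ (norm_of fun t ht x hx =>
      ⟨conj_mem hHO (hTH ht) hx.1, mul_mem (mul_mem (hTO₀ ht) hx.2)
        ((normalizer (O₀ : Set G)).inv_mem (hTO₀ ht))⟩)
  have hwn : w ∈ normalizer (O₀ : Set G) := hw.2
  have hwn' : ∀ x ∈ O₀, w⁻¹ * x * w ∈ O₀ := fun x hx => by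
    have := (mem_normalizer_iff.1 (inv_mem hwn) x).1 hx
    rwa [inv_inv] at this
  -- `T_* := C_T(V_i)`
  set Ts := stab M i ⊓ centralizer (fac M i : Set G) with hTs
  have hO₀Ts : O₀ ≤ Ts := le_inf hO₀T inf_le_right
  have hPTs : o2 P ≤ Ts := by
    refine le_inf (o2_le_stab' h.c2 h.par i) fun x hx => mem_centralizer_iff.2 fun u hu => ?_
    exact ((ZN.mem_zc.1 (h.par.isLoc.zl_le S h.c2 (fac_le M i hu))).2.1 x hx).symm
  have hTsw : ∀ t ∈ Ts, w⁻¹ * t * w ∈ Ts := by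
    intro t ht
    have h1 : t⁻¹ * w * t * w⁻¹ ∈ O₀ := by
      have := hwT t⁻¹ (inv_mem ht.1)
      rwa [inv_inv] at this
    have h2 := hwn' _ h1
    have e : w⁻¹ * t * w = t * (w⁻¹ * (t⁻¹ * w * t * w⁻¹) * w)⁻¹ := by group
    rw [e]
    exact mul_mem ht (inv_mem (hO₀Ts h2))
  have hTsw' : ∀ t ∈ Ts, w * t * w⁻¹ ∈ Ts := by
    intro t ht
    have h1 := hwT t ht.1
    have e : w * t * w⁻¹ = (t * w * t⁻¹ * w⁻¹)⁻¹ * t := by group
    rw [e]
    exact mul_mem (inv_mem (hO₀Ts h1)) ht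
  have hVTs : fac M i ≤ Ts := le_inf hVT fun x hx => mem_centralizer_iff.2 fun u hu => h.fr.comm i i u hu x hx
  -- `V_i^w ≤ ZZ`
  have hwV : ∀ b ∈ fac M i, w * b * w⁻¹ ∈ zc (o2 P) := by
    intro b hb
    refine zc_le_zz h.c2 h.par hPTs (inf_le_left.trans h.TP) (ZN.mem_zc.2 ⟨hTsw' b (hVTs hb), fun t ht => ?_, ?_⟩)
    · have h1 := mem_centralizer_iff.1 (hTsw t ht).2 b hb
      calc t * (w * b * w⁻¹) = w * ((w⁻¹ * t * w) * b) * w⁻¹ := by group
        _ = w * b * w⁻¹ * t := by rw [← h1]; group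
    · rw [pow_two]
      calc w * b * w⁻¹ * (w * b * w⁻¹) = w * (b * b) * w⁻¹ := by group
        _ = 1 := by rw [h.fr.sq i b hb]; group
  obtain ⟨b, hb, hb1, hvb⟩ := h.fr.exists_other (i := i) v
  obtain ⟨a, ha, hab⟩ := h.fr.move hvi hb hv1 hb1 hvb
  have haT : a ∈ stab M i := (o2_le_stab h.par h.cc h.two hv hv1).1 (h.fr.KK_le_q hvi hv1 ha)
  have ho : w * a * w⁻¹ * a⁻¹ ∈ O₀ := by
    have h1 := inv_mem (hwT a haT)
    have e : (a * w * a⁻¹ * w⁻¹)⁻¹ = w * a * w⁻¹ * a⁻¹ := by group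
    rwa [e] at h1
  have hOy : ∀ o ∈ O₀, o * (w * b * w⁻¹) = w * b * w⁻¹ * o := by
    intro o ho
    have h1 := mem_centralizer_iff.1 (hwn' o ho).2 b hb
    calc o * (w * b * w⁻¹) = w * ((w⁻¹ * o * w) * b) * w⁻¹ := by group
      _ = w * b * w⁻¹ * o := by rw [← h1]; group
  have hOv : ∀ o ∈ O₀, o * v = v * o := fun o ho => (mem_centralizer_iff.1 ho.2 v hvi).symm
  have key : w * v * w⁻¹ = (w * a * w⁻¹ * a⁻¹) * (a * (w * b * w⁻¹) * a⁻¹) * (w * a * w⁻¹ * a⁻¹)⁻¹ *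
      (w * b * w⁻¹)⁻¹ := by
    have e : v = a * b * a⁻¹ * b⁻¹ := by rw [hab, mul_inv_cancel_right]
    calc w * v * w⁻¹ = w * (a * b * a⁻¹ * b⁻¹) * w⁻¹ := by rw [← e]
      _ = _ := by group
  rcases h.fr.KK_act hvi ha (h.zz_q hvi hv1 (hwV b hb)) with h1 | h1
  · rw [h1, hOy _ ho, mul_inv_cancel_right, mul_inv_cancel] at key
    exact hv1 (by
      calc v = w⁻¹ * (w * v * w⁻¹) * w := by group
        _ = 1 := by rw [key]; group)
  · rw [h1] at key
    have h2 : (w * a * w⁻¹ * a⁻¹) * (v * (w * b * w⁻¹)) = v * (w * b * w⁻¹) * (w * a * w⁻¹ * a⁻¹) := by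
      calc (w * a * w⁻¹ * a⁻¹) * (v * (w * b * w⁻¹)) = ((w * a * w⁻¹ * a⁻¹) * v) * (w * b * w⁻¹) := by group
        _ = v * ((w * a * w⁻¹ * a⁻¹) * (w * b * w⁻¹)) := by rw [hOv _ ho]; group
        _ = _ := by rw [hOy _ ho]; group
    rw [h2, mul_inv_cancel_right, mul_inv_cancel_right] at key
    exact hwO₀ (hT0 w hw.1 (comm_of_conj key)).1

end Sit

end frame

end Cfsg.Agent.Omega.IId.Big.Syl
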