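import Cfsg.Agent.Omega.IId.Big.Base
import Cfsg.Agent.Omega.HT.Sig

/-!
# WrBig, `q = 2`, CASE 1: `c' = 1` (#18372 (1); #18842 (c))

Over the frame `Fr S V` (commuting four-groups `V j`): the element `c` of the JUNCTION over `T` (`HT.Sig (V i) R o c`,
`c ∈ ⟨V j⟩`, `c` centralised by the groups `O₂(C(v))`, `v ∈ V i ∖ 1`) is `1`.
-/

set_option autoImplicit false
set_option linter.unusedSectionVars false

namespace Cfsg.Agent.Omega.IId.Big

open Subgroup Cfsg
open Cfsg.Agent.ZN (o2 zc)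
open Triangle (KK mem_cent mem_KK)
open Cfsg.Agent.Omega.HT (Sig HTT)
open Cfsg.Agent.Omega.BTwo (XX QQ)

universe u

variable {G : Type u} [Group G] [Finite G] {ι : Type} {S : Subgroup G} {V : ι → Subgroup G}

namespace Fr

variable (h : Fr S V)
include h

/-- `⟨V j⟩` is abelian -/
theorem comm_sup {i : ι} {x y : G} (hx : x ∈ V i) (hy : y ∈ ⨆ j, V j) : x * y = y * x := by
  have h1 : (⨆ j, V j) ≤ centralizer ({x} : Set G) := iSup_le fun j z hz => mem_cent.2 (h.comm j i z hz x hx)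
  exact (mem_cent.1 (h1 hy)).symm

/-- `⟨V j⟩ ≤ O₂(C(v))` -/
theorem sup_le_q {i : ι} {v : G} (hv : v ∈ V i) (hv1 : v ≠ 1) : (⨆ j, V j) ≤ qz v :=
  iSup_le fun j => h.VQ i j v hv hv1

/-- an element of `V i` centralised by all `W_v`, `v ∈ V i`, is `1` -/
theorem eq_one_of_KK {i : ι} {x : G} (hx : x ∈ V i) (hc : ∀ v ∈ V i, v ≠ 1 → ∀ g ∈ KK v, g * x = x * g) : x = 1 := by
  by_contra hx1
  obtain ⟨b, hb, hb1, hxb⟩ := h.exists_other (i := i) x
  obtain ⟨g, hg, e⟩ := h.move hb hx hb1 hx1 (Ne.symm hxb)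
  have h1 := conj_of_comm (hc b hb hb1 g hg)
  rw [e] at h1
  exact hb1 (mul_eq_right.mp h1)

/-- an element of `⟨V j⟩` centralised by all `W_v` is `1` -/
theorem eq_one_of_sup [Finite ι] {c : G} (hcV : c ∈ ⨆ j, V j)
    (hc : ∀ j, ∀ v ∈ V j, v ≠ 1 → ∀ g ∈ KK v, g * c = c * g) : c = 1 := by
  classical
  have := Fintype.ofFinite ι
  have key : ∀ s : Finset ι, c ∈ (⨆ j ∈ s, V j) → c = 1 := by
    intro s
    induction s using Finset.induction_on with
    | empty => intro h1; simpa using h1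
    | insert a t hat ih =>
      intro h1
      rw [Finset.iSup_insert] at h1
      have hn : V a ≤ normalizer ((⨆ j ∈ t, V j : Subgroup G) : Set G) := by
        intro x hx
        refine (centralizer_le_normalizer _) ?_
        rw [mem_centralizer_iff]
        intro y hy
        have hy' : y ∈ ⨆ j, V j := (iSup₂_le fun j _ => le_iSup V j) hy
        exact (h.comm_sup hx hy').symm
      rw [← SetLike.mem_coe, coe_mul_of_left_le_normalizer_right _ _ hn] at h1
      obtain ⟨x, hx, y, hy, hxy⟩ := h1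
      have hxy' : x * y = c := hxy
      have hy2 : ∀ v ∈ V a, v ≠ 1 → ∀ g ∈ KK v, g * y = y * g := by
        intro v hv hv1 g hg
        have h2 : (⨆ j ∈ t, V j) ≤ centralizer ({g} : Set G) := by
          refine iSup₂_le fun j hj z hz => mem_cent.2 ?_
          have hja : j ≠ a := fun e => hat (e ▸ hj)
          exact (h.Qc a j hja v hv hv1 g (h.KK_le_q hv hv1 hg) z hz).symm
        exact (mem_cent.1 (h2 hy)).symm
      have hx1 : x = 1 := by
        refine h.eq_one_of_KK hx fun v hv hv1 g hg => ?_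
        have h3 := hc a v hv hv1 g hg
        rw [← hxy'] at h3
        have h4 := hy2 v hv hv1 g hg
        calc g * x = g * (x * y) * y⁻¹ := by group
          _ = x * (y * g) * y⁻¹ := by rw [h3]; group
          _ = x * (g * y) * y⁻¹ := by rw [h4]
          _ = x * g := by group
      rw [hx1, one_mul] at hxy'
      exact ih (hxy' ▸ hy)
  refine key Finset.univ ?_
  simpa using hcV

/-- **`c' = 1`** (#18372 (1)): `c ∈ ⟨V j⟩` centralised by the `O₂(C(v))`, `v ∈ V i ∖ 1`, and fixed modulo `R o` by `Σ`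
is `1`. -/
theorem c_one [Finite ι] {i : ι} {κ : Type*} {R : κ → Subgroup G} {o : κ} (hR : R o ≤ V i)
    (hRne : ∃ v ∈ V i, v ∉ R o) {c : G} (hcV : c ∈ ⨆ j, V j)
    (hcX : ∀ v ∈ V i, v ≠ 1 → ∀ g ∈ qz v, g * c = c * g) (hS : Sig (V i) R o c) : c = 1 := by
  refine h.eq_one_of_sup hcV fun j v hv hv1 g hg => ?_
  have hgq := h.KK_le_q hv hv1 hg
  by_cases hji : j = i
  · subst hji
    exact hcX v hv hv1 g hgq
  have hgV : ∀ x ∈ V i, g * x = x * g := fun x hx => h.Qc j i (fun e => hji e.symm) v hv hv1 g hgq x hx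
  have hgN : g ∈ normalizer (R o : Set G) := by
    refine (centralizer_le_normalizer _) ?_
    rw [mem_centralizer_iff]
    exact fun y hy => (hgV y (hR hy)).symm
  obtain ⟨v₀, hv₀, hv₀R⟩ := hRne
  have h1 := hS g hgN (fun x hx => mem_sup_left (by rw [conj_of_comm (hgV x hx)]; exact hx)) v₀ hv₀ hv₀R
  have e1 : (v₀ * c)⁻¹ * g * (v₀ * c) * g⁻¹ = c⁻¹ * (g * c * g⁻¹) := by
    calc (v₀ * c)⁻¹ * g * (v₀ * c) * g⁻¹ = c⁻¹ * v₀⁻¹ * (g * v₀) * c * g⁻¹ := by group
      _ = c⁻¹ * v₀⁻¹ * (v₀ * g) * c * g⁻¹ := by rw [hgV v₀ hv₀]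
      _ = c⁻¹ * (g * c * g⁻¹) := by group
  rw [e1] at h1
  rcases h.KK_act hv hg (h.sup_le_q hv hv1 hcV) with h2 | h2
  · exact comm_of_conj h2
  · exfalso
    rw [h2, h.comm_sup hv hcV, inv_mul_cancel_left] at h1
    exact hv1 (h.disj (fun e => hji e) hv (hR h1))

/-- an element of `⟨V j⟩` centralised by the `O₂(C(v))`, `v ∈ V i ∖ 1`, and by `N(V i) ∩ N(A)`, `A ≤ V i`, is `1`
(the form needed by `HT.Final.false_of`) -/
theorem eq_one_of_norm [Finite ι] {i : ι} {A : Subgroup G} (hA : A ≤ V i) {c : G} (hcV : c ∈ ⨆ j, V j)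
    (hcX : ∀ v ∈ V i, v ≠ 1 → ∀ g ∈ qz v, g * c = c * g)
    (hN : ∀ g ∈ normalizer (V i : Set G), g ∈ normalizer (A : Set G) → g * c = c * g) : c = 1 := by
  refine h.eq_one_of_sup hcV fun j v hv hv1 g hg => ?_
  have hgq := h.KK_le_q hv hv1 hg
  by_cases hji : j = i
  · subst hji
    exact hcX v hv hv1 g hgq
  have hgV : ∀ x ∈ V i, g * x = x * g := fun x hx => h.Qc j i (fun e => hji e.symm) v hv hv1 g hgq x hx
  refine hN g ((centralizer_le_normalizer _) ?_) ((centralizer_le_normalizer _) ?_)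
  · rw [mem_centralizer_iff]
    exact fun y hy => (hgV y hy).symm
  · rw [mem_centralizer_iff]
    exact fun y hy => (hgV y (hA hy)).symm

end Fr

end Cfsg.Agent.Omega.IId.Big
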