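import Cfsg.Agent.Omega.IId.Big.Syl.Base
import Cfsg.Agent.Omega.IId.Big.Syl.COne
import Cfsg.Agent.Omega.HT.Final
import Cfsg.Agent.Omega.HT.End

/-!
# WrBig, `q = 2`, CASE 1: the end over `HT.Final.false_of` (bb OMEGA 18842 (f))

* `zz_le_sup` : second half of (ZV) of #17249: `Ω₁Z(O₂(P)) = ⟨V_l⟩`;
* `Sit.false_of` : the contradiction from the instance `HTT`, LEMMA E, a second index `j` with `stab M j = stab M i`,
  and one `z₀ ∈ Z₀#` with `Core` and `¬ UM ≤ QQ`.
-/

set_option autoImplicit false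
set_option linter.unusedSectionVars false

namespace Cfsg.Agent.Omega.IId.Big.Syl

open Subgroup Pointwise Cfsg Cfsg.Agent.ZN Cfsg.Agent.ZN.ChoiceBase
open Cfsg.Agent.Omega.MinPar Cfsg.Agent.Omega.FFThm Cfsg.Agent.Omega.FrameMulti
open Cfsg.Agent.MinSimple.VModule (o2_isPGroup)
open Triangle (KK KK_conj KK_le_o2 mem_cent mem_KK mem_zpowers_iff_of_sq cent_conj o2_cent_conj)
open Supply
open Cfsg.Agent.Omega.BTwo (QQ XX CenX)
open Cfsg.Agent.Omega.HT (HTT)
open Cfsg.Agent.Omega.HOneTwo (UM)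
open Cfsg.Agent.Omega.HTwo.ThmA (LE)
open Cfsg.Agent.Omega.HTwo.AlphaP (MP)
open Cfsg.Agent.Omega.HTwo.EntryTv (QF)
open Cfsg.Agent.Omega.HT.JunAB (MZ)
open Cfsg.Agent.Omega.HT.Main (Core)

universe u

local notation "cz" v:max => centralizer ({v} : Set _)
local notation "qz" v:max => ZN.o2 (centralizer ({v} : Set _))

variable {G : Type u} [Group G] [Finite G] {F : Type} [Field F] [Finite F] [CharP F 2] {S : Sylow 2 G}
  {P : Subgroup G} {k : ℕ} {M : NatK F (S : Subgroup G) P (zl (S : Subgroup G) P) ⊥ k}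

/-- for `z ∈ Ω₁Z(O₂(P))` there is `u ∈ V_l` such that `z u` is centralised by all `W_v`, `v ∈ V_l` -/
theorem exists_fac (hc : IsCharacteristicTwoType G) (hP : IsParS (S : Subgroup G) P) (hC : CC M)
    (hF : Nat.card F = 2) (hfr : Fr (S : Subgroup G) (fac M)) (l : Fin k) {z : G} (hz : z ∈ zc (o2 P)) :
    ∃ u ∈ fac M l, ∀ v ∈ fac M l, v ≠ 1 → ∀ g ∈ KK v, g * (z * u) = z * u * g := by
  have hVz : zl (S : Subgroup G) P ≤ zc (o2 P) := hP.isLoc.zl_le S hc
  obtain ⟨v, hv, hv1⟩ := exists_line M l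
  have hv' := line_le M l hv
  obtain ⟨w, hw, hw1, hvw⟩ := hfr.exists_other (i := l) v
  -- `W_v` is trivial on `zz` or moves it
  have key : ∀ v ∈ fac M l, v ≠ 1 → ∀ w ∈ fac M l, w ≠ 1 → v ≠ w → ∀ y ∈ zc (o2 P),
      ∃ u, (u = 1 ∨ u = w) ∧ ∀ g ∈ KK v, g * (y * u) = y * u * g := by
    intro v hv hv1 w hw hw1 hvw y hy
    by_cases hall : ∀ g ∈ KK v, g * y = y * g
    · exact ⟨1, Or.inl rfl, fun g hg => by rw [mul_one]; exact hall g hg⟩
    push Not at hall
    obtain ⟨a, ha, hay⟩ := hall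
    refine ⟨w, Or.inr rfl, fun g hg => ?_⟩
    have hyq := zz_le_q hc hP hC hF hfr hv hv1 hy
    have hwz : w ∈ zc (o2 P) := hVz (fac_le M l hw)
    have hwq := zz_le_q hc hP hC hF hfr hv hv1 hwz
    -- an element of `W_v` which commutes with `w` commutes with `Ω₁Z(O₂(P))`
    have hcw : ∀ g ∈ KK v, g * w = w * g → ∀ y ∈ zc (o2 P), g * y = y * g := by
      intro g hg hgw y hy
      have hgq := hfr.KK_le_q hv hv1 hg
      have hgv : g * v = v * g := mem_cent.1 (o2_le _ hgq)
      refine comm_zz hc hP (q_le_P hP hC hF hv hv1 hgq) (fun x hx => comm_zl (M := M) (fun m x hx => ?_) hx) hy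
      by_cases hm : m = l
      · subst hm
        rcases hfr.cases4 hv hw hv1 hw1 hvw hx with rfl | rfl | rfl | rfl
        · simp
        · exact hgv
        · exact hgw
        · calc g * (v * w) = (g * v) * w := by group
            _ = v * (g * w) := by rw [hgv]; group
            _ = v * w * g := by rw [hgw]; group
      · exact hfr.Qc l m hm v hv hv1 g hgq x hx
    have hact : ∀ g ∈ KK v, ∀ y ∈ zc (o2 P), g * y = y * g ∨ g * y = v * y * g := by
      intro g hg y hy
      rcases hfr.KK_act hv hg (zz_le_q hc hP hC hF hfr hv hv1 hy) with h1 | h1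
      · left; exact comm_of_conj h1
      · right; rw [← h1]; group
    have hvv : v * v = 1 := hfr.sq l v hv
    have hyv : y * v = v * y := MinSimple.VModule.zc_comm (o2 P) y hy v (hVz (fac_le M l hv))
    have hav : a * v = v * a := mem_cent.1 (o2_le _ (hfr.KK_le_q hv hv1 ha))
    have hay' : a * y = v * y * a := (hact a ha y hy).resolve_left hay
    rcases hact g hg w hwz with h1 | h1
    · -- `g` is trivial
      exact hcw g hg h1 _ (mul_mem hy hwz)
    · -- `a g` commutes with `w`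
      have haw : a * w = v * w * a := by
        rcases hact a ha w hwz with h2 | h2
        · exact (hay (hcw a ha h2 y hy)).elim
        · exact h2
      have hag : a * g * w = w * (a * g) := by
        calc a * g * w = a * (g * w) := by group
          _ = (a * v) * w * g := by rw [h1]; group
          _ = v * (a * w) * g := by rw [hav]; group
          _ = (v * v) * w * a * g := by rw [haw]; group
          _ = w * (a * g) := by rw [hvv]; group
      have h2 := hcw (a * g) (mul_mem ha hg) hag y hy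
      have h3 : g * y = v * y * g := by
        rcases hact g hg y hy with h4 | h4
        · exfalso
          apply hay
          have h5 : a * y * g = y * a * g := by
            calc a * y * g = a * (y * g) := by group
              _ = a * g * y := by rw [← h4]; group
              _ = y * a * g := by rw [h2]; group
          exact mul_right_cancel h5
        · exact h4
      calc g * (y * w) = (g * y) * w := by group
        _ = v * y * (g * w) := by rw [h3]; group
        _ = v * (y * v) * w * g := by rw [h1]; group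
        _ = (v * v) * y * w * g := by rw [hyv]; group
        _ = y * w * g := by rw [hvv, one_mul]
  obtain ⟨u₁, hu₁, h1⟩ := key v hv' hv1 w hw hw1 hvw z hz
  have hu₁z : z * u₁ ∈ zc (o2 P) := by
    refine mul_mem hz (hVz (fac_le M l ?_))
    rcases hu₁ with rfl | rfl
    · exact one_mem _
    · exact hw
  obtain ⟨u₂, hu₂, h2⟩ := key w hw hw1 v hv' hv1 hvw.symm (z * u₁) hu₁z
  have hu₁' : u₁ ∈ fac M l := by
    rcases hu₁ with rfl | rfl
    · exact one_mem _
    · exact hw
  have hu₂' : u₂ ∈ fac M l := by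
    rcases hu₂ with rfl | rfl
    · exact one_mem _
    · exact hv'
  refine ⟨u₁ * u₂, mul_mem hu₁' hu₂', ?_⟩
  -- `z u₁ u₂` is centralised by `W_v` and `W_w`
  have e : z * (u₁ * u₂) = z * u₁ * u₂ := (mul_assoc _ _ _).symm
  have hv2 : ∀ g ∈ KK v, g * (z * (u₁ * u₂)) = z * (u₁ * u₂) * g := by
    intro g hg
    have h3 : g * u₂ = u₂ * g := by
      rcases hu₂ with rfl | rfl
      · simp
      · exact mem_cent.1 (o2_le _ (hfr.KK_le_q hv' hv1 hg))
    calc g * (z * (u₁ * u₂)) = (g * (z * u₁)) * u₂ := by group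
      _ = z * u₁ * (g * u₂) := by rw [h1 g hg]; group
      _ = z * (u₁ * u₂) * g := by rw [h3]; group
  have hw2 : ∀ g ∈ KK w, g * (z * (u₁ * u₂)) = z * (u₁ * u₂) * g := by
    intro g hg
    rw [e]; exact h2 g hg
  intro x hx hx1 g hg
  rcases hfr.cases4 hv' hw hv1 hw1 hvw hx with rfl | rfl | rfl | rfl
  · exact (hx1 rfl).elim
  · exact hv2 g hg
  · exact hw2 g hg
  · -- `v w = w^a`, `a ∈ W_v`
    obtain ⟨a, ha, haw⟩ := hfr.move hv' hw hv1 hw1 hvw
    have h3 : a⁻¹ * g * a ∈ KK w := by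
      have h4 := KK_conj (h := a⁻¹) hg
      have e2 : a⁻¹ * (v * w) * a⁻¹⁻¹ = w := by rw [← haw]; group
      rw [e2] at h4
      simpa using h4
    have h4 := hw2 _ h3
    have h5 := hv2 a ha
    obtain ⟨y, hy⟩ : ∃ y, y = z * (u₁ * u₂) := ⟨_, rfl⟩
    rw [← hy] at h4 h5 ⊢
    have h6 : a⁻¹ * y = y * a⁻¹ := by
      rw [inv_mul_eq_iff_eq_mul, ← mul_assoc, h5, mul_inv_cancel_right]
    calc g * y = a * (a⁻¹ * g * a) * (a⁻¹ * y) := by group
      _ = a * ((a⁻¹ * g * a) * y) * a⁻¹ := by rw [h6]; group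
      _ = (a * y) * (a⁻¹ * g) := by rw [h4]; group
      _ = y * g := by rw [h5]; group

/-- **(ZV)** second half: `Ω₁Z(O₂(P)) ≤ ⟨V_l⟩` -/
theorem zz_le_sup (hc : IsCharacteristicTwoType G) (hP : IsParS (S : Subgroup G) P) (hC : CC M)
    (hF : Nat.card F = 2) (hfr : Fr (S : Subgroup G) (fac M)) : zc (o2 P) ≤ ⨆ l, fac M l := by
  classical
  intro z hz
  have hVz : zl (S : Subgroup G) P ≤ zc (o2 P) := hP.isLoc.zl_le S hc
  have hsup : (⨆ l, fac M l) ≤ zl (S : Subgroup G) P := iSup_le fun l => fac_le M l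
  have key : ∀ s : Finset (Fin k), ∃ u ∈ ⨆ l, fac M l, ∀ l ∈ s, ∀ v ∈ fac M l, v ≠ 1 →
      ∀ g ∈ KK v, g * (z * u) = z * u * g := by
    intro s
    induction s using Finset.induction_on with
    | empty => exact ⟨1, one_mem _, fun l hl => by simp at hl⟩
    | insert a t hat ih =>
      obtain ⟨u, hu, h1⟩ := ih
      obtain ⟨x, hx, h2⟩ := exists_fac hc hP hC hF hfr a (mul_mem hz (hVz (hsup hu)))
      refine ⟨u * x, mul_mem hu (le_iSup (fun l => fac M l) a hx), fun l hl v hv hv1 g hg => ?_⟩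
      rw [show z * (u * x) = z * u * x from (mul_assoc _ _ _).symm]
      rcases Finset.mem_insert.1 hl with rfl | hl
      · exact h2 v hv hv1 g hg
      · have hla : l ≠ a := fun e => hat (e ▸ hl)
        have h3 : g * x = x * g := hfr.Qc l a hla.symm v hv hv1 g (hfr.KK_le_q hv hv1 hg) x hx
        calc g * (z * u * x) = (g * (z * u)) * x := by group
          _ = z * u * (g * x) := by rw [h1 l hl v hv hv1 g hg]; group
          _ = z * u * x * g := by rw [h3]; group
  obtain ⟨u, hu, h1⟩ := key Finset.univ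
  have h2 := eq_one_of_all hP hfr (mul_mem hz (hVz (hsup hu))) fun l v hv hv1 g hg =>
    h1 l (Finset.mem_univ l) v hv hv1 g hg
  rw [mul_eq_one_iff_eq_inv] at h2
  rw [h2]
  exact inv_mem hu

namespace Sit

variable {i j : Fin k}

theorem zc_le_sup (h : Sit M i) : zc (stab M i) ≤ ⨆ l, fac M l :=
  h.zc_le.trans (zz_le_sup h.c2 h.par h.cc h.two h.fr)

/-- **The end of CASE 1.** -/
theorem false_of (h : Sit M i) (h' : Sit M j) (hst : stab M i = stab M j) {κ : Type*}
    {R : κ → Subgroup G} {o : κ} {P' : Subgroup G} (b : HTT (stab M i) P' (fac M i) R o)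
    (hX : fac M j ≤ CenX (fac M i) R) (hLE : ∀ l, LE (fac M i) R l) {z₀ z₁ : G}
    (hz₀ : z₀ ∈ zc (stab M i) ⊓ centralizer (P' : Set G)) (h0 : z₀ ≠ 1)
    (hz₁ : z₁ ∈ zc (stab M i) ⊓ centralizer (P' : Set G)) (h1 : z₁ ≠ 1) (hne : z₁ ≠ z₀)
    (hα : ¬ UM (fac M i) (MP (fac M i) R o z₀) ≤ QQ (R o))
    (hcore : ∀ r, (∀ x, x ∈ R o ↔ x = 1 ∨ x = r) → Core (fac M i) R o r z₀) : False := by
  have hbad : ∀ z ∈ zc (stab M i) ⊓ centralizer (P' : Set G), z ≠ 1 →
      (z = z₀ ∨ ∀ g ∈ normalizer (fac M i : Set G), g ∈ normalizer (R o : Set G) → g * z = z * g) → z = z₀ := by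
    intro z hz hz1 hor
    refine hor.resolve_right fun hN => hz1 ?_
    refine h.fr.eq_one_of_norm (i := i) (b.R_le o) (h.zc_le_sup hz.1) (fun v hv hv1 g hg => ?_) hN
    obtain ⟨l, hl⟩ := b.R_cov v hv
    obtain ⟨r, hr1, -, hr⟩ := b.exists_gen l
    have hvr : v = r := ((hr v).1 hl).resolve_left hv1
    subst hvr
    have hg' : g ∈ QQ (R l) := by
      rw [← HT.EntryTv.QF_eq b hr]
      exact hg
    exact HTwo.Hat.ZQ_comm (HTwo.Hat.cenX_le_ZQ b.toBTS hLE l (b.cz_le hz)) hg'
  refine HT.Final.false_of b hLE hz₀ h0 hz₁ h1 hne ?_ (fun z hz hz1 hor => ?_)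
    (fun z hz hz1 hor r hr hr1 => ?_)
  · -- `T` is a Sylow 2-subgroup of `⟨C(Z), X⟩ ≤ C(v_j)`
    obtain ⟨w, hw, hw1⟩ := exists_line M j
    have hwz : w ∈ zc (stab M i) := by
      rw [hst]
      refine ZN.mem_zc.2 ⟨?_, fun t ht => ?_, by rw [pow_two]; exact h'.fr.sq j w (line_le M j hw)⟩
      · exact o2_le_stab' h'.c2 h'.par j (MinSimple.VModule.zc_le _
          (h'.par.isLoc.zl_le S h'.c2 (fac_le M j (line_le M j hw))))
      · exact stab_comm_line M h'.SP h'.two hw ht
    have hle : MZ (stab M i) (fac M i) R ≤ normalizer (line M j : Set G) := by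
      rw [h'.norm_line hw hw1]
      refine sup_le (centralizer_le (Set.singleton_subset_iff.2 hwz)) ?_
      exact fun x hx => mem_cent.2 (mem_centralizer_iff.1 (hX (line_le M j hw)) x hx)
    have hSM : stab M i ≤ MZ (stab M i) (fac M i) R := by
      refine le_trans (fun t ht => ?_) le_sup_left
      exact mem_centralizer_iff.2 fun x hx => ((ZN.mem_zc.1 hx).2.1 t ht).symm
    intro h2
    apply h'.odd
    rw [← hst, ← relIndex_mul_relIndex _ _ _ hSM hle]
    exact Dvd.dvd.mul_right h2 _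
  · rw [hbad z hz hz1 hor]
    exact hα
  · rw [hbad z hz hz1 hor]
    exact hcore r hr

end Sit

end Cfsg.Agent.Omega.IId.Big.Syl
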