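import Cfsg.Agent.Omega.HT.LemE
import Cfsg.Agent.Omega.IId.Big.RedFr

/-!
# LEMMA E over `T` for WrBig, `q = 2`, CASE 1 (bb OMEGA 17249 (ET), 18842 (b))

* `le_T'` : LEMMA E over `T`, the good group `A` may depend on the central involution `e` of `T`;
* `Rd.exists_le` : `e ∈ Ω₁Z(S⁰)`, `e ≠ 1, z_i`: every subgroup containing `e` which is normalised by `C(z_i)` contains
  some `V_l`, `l ≠ i`;
* `Rd.le_E` : LEMMA E over `T ≥ S⁰` for the block `i`.
-/

set_option autoImplicit false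
set_option linter.unusedSectionVars false

namespace Cfsg.Agent.Omega.IId.Big.Syl

open Subgroup Cfsg.Agent.Omega.BTwo Cfsg.Agent.Omega.HTwo Cfsg.Agent.Omega.HTwo.Par
  Cfsg.Agent.Omega.HTwo.ThmA Cfsg.Agent.Omega.HT.LemE

universe u

section

variable {G : Type*} [Group G] {ι : Type*} {V : Subgroup G} {R : ι → Subgroup G}

/-- **LEMMA E over `T`**, the group `A` depends on `e` -/
theorem le_T' [Finite G] (b : BTS V R) {i : ι} {r : G} (hr : ∀ x ∈ R i, x = 1 ∨ x = r) (hri : r ∈ R i)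
    {T : Subgroup G} (hT : IsPGroup 2 T) (hTV : T ≤ normalizer (V : Set G))
    (hTR : T ≤ normalizer (R i : Set G)) (hodd : ¬ 2 ∣ T.relIndex (normalizer (R i : Set G)))
    (hnc : ∃ k ∈ normalizer (R i : Set G), ∃ v ∈ V, ∃ w ∈ cj k V, v * w ≠ w * v)
    (hdec : ∀ e ∈ T, e ≠ 1 → e * e = 1 → (∀ t ∈ T, e * t = t * e) → e ∈ CenX V R →
      (Good r e ∧ Good r (r * e)) ∨ ∃ A : Subgroup G, (∃ y ∈ A, ∃ y' ∈ A, y ≠ 1 ∧ y' ≠ 1 ∧ y * y' ≠ 1) ∧
        A ≤ CenX V R ∧ (∀ y ∈ A, y ≠ 1 → Good r y) ∧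
        ∀ Λ : Subgroup G, normalizer (R i : Set G) ≤ normalizer (Λ : Set G) → e ∈ Λ → A ≤ Λ) (j : ι) :
    LE V R j := by
  refine le_all b.toBT (i := i) (fun Λ hΛ hN => ?_) j
  by_contra hΛR
  set K := normalizer (R i : Set G) with hK
  have hr1 : r ≠ 1 := by
    rintro rfl
    refine b.R_ne i ((eq_bot_iff_forall _).2 fun x hx => ?_)
    rcases hr x hx with h | h <;> exact h
  have hrr : r * r = 1 := b.V_sq r (b.R_le i hri)
  have hKr : ∀ k ∈ K, k * r = r * k := by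
    intro k hk
    have h1 := conj_mem_of_normalizer hk hri
    rcases hr _ h1 with h | h
    · exfalso
      apply hr1
      have := congrArg (fun y => k⁻¹ * y * k) h
      simp only [mul_one, inv_mul_cancel] at this
      rw [← this]; group
    · rw [mul_inv_eq_iff_eq_mul] at h
      exact h
  -- `E = R i Λ`
  set E := R i ⊔ Λ with hE
  have hKE : K ≤ normalizer (E : Set G) := by
    intro k hk
    rw [← cj_eq_self_iff, hE, cj_sup, cj_eq_self_iff.2 hk, cj_eq_self_iff.2 (hN hk)]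
  have hEm : ∀ l ∈ E, ∃ a ∈ R i, a * l ∈ CenX V R := by
    intro l hl
    have h1 : E ≤ RC b.toBT i := by
      refine sup_le (fun a ha => ⟨a⁻¹, inv_mem ha, ?_⟩) hΛ
      rw [inv_mul_cancel]
      exact one_mem _
    exact h1 hl
  -- elements of `E` modulo `X^k`
  have hEk : ∀ k ∈ K, ∀ e ∈ E, e ∈ centralizer (cj k (BTwo.XX V R) : Set G) ∨
      r * e ∈ centralizer (cj k (BTwo.XX V R) : Set G) := by
    intro k hk e he
    have h1 : k⁻¹ * e * k ∈ E := conj_inv_mem_of_normalizer (hKE hk) he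
    obtain ⟨a, ha, h2⟩ := hEm _ h1
    rw [centralizer_cj, mem_cj, mem_cj]
    rcases hr a ha with rfl | rfl
    · rw [one_mul] at h2
      exact Or.inl h2
    · right
      have h3 : k⁻¹ * (a * e) * k = a * (k⁻¹ * e * k) := by
        have h4 : k⁻¹ * a = a * k⁻¹ := by
          rw [inv_mul_eq_iff_eq_mul, ← mul_assoc, hKr k hk, mul_inv_cancel_right]
        calc k⁻¹ * (a * e) * k = (k⁻¹ * a) * e * k := by group
          _ = _ := by rw [h4]; group
      rw [h3]; exact h2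
  have hE0 : E ⊓ CenX V R ≠ ⊥ := by
    intro h
    apply hΛR
    intro x hx
    obtain ⟨a, ha, hm⟩ := hΛ x hx
    have h1 : a * x ∈ E ⊓ CenX V R :=
      ⟨mul_mem ((le_sup_left : R i ≤ E) ha) ((le_sup_right : Λ ≤ E) hx), hm⟩
    rw [h, mem_bot, mul_eq_one_iff_eq_inv] at h1
    have h2 : x = a⁻¹ := by rw [h1, inv_inv]
    rw [h2]; exact inv_mem ha
  have hTE : T ≤ normalizer ((E ⊓ CenX V R : Subgroup G) : Set G) := by
    intro s hs
    have h1 := b.NV_le_NCenX (hTV hs)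
    rw [← cj_eq_self_iff, cj_inf, cj_eq_self_iff.2 (hKE (hTR hs)), cj_eq_self_iff.2 h1]
  have hE2 : IsPGroup 2 (E ⊓ CenX V R : Subgroup G) := b.CenX_isPGroup.to_le inf_le_right
  have hEK : E ⊓ CenX V R ≤ K := by
    refine inf_le_right.trans ?_
    refine (b.CenX_le_cen.trans (centralizer_le (b.R_le i))).trans (centralizer_le_normalizer _)
  have hET := HT.LemE.le_of_odd hT hTR hodd hE2 hEK hTE
  obtain ⟨e, he, he1, hee, heT⟩ := HT.LemE.exists_inv hT hE0 hET hTE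
  have ab : ∀ f : G, ∀ a ∈ O2 (centralizer ({f} : Set G)) ⊓
      centralizer (O2 (centralizer ({f} : Set G)) : Set G),
      ∀ c ∈ O2 (centralizer ({f} : Set G)) ⊓ centralizer (O2 (centralizer ({f} : Set G)) : Set G),
      a * c = c * a := fun f a ha c hc => mem_centralizer_iff.1 hc.2 a ha.1
  obtain ⟨k0, hk0, v0, hv0, w0, hw0, hne⟩ := hnc
  rcases hdec e (hET he) he1 hee heT he.2 with ⟨g1, g2⟩ | ⟨A, hA3, hAX, hAg, hA⟩
  · refine hne (commute_of_bipartite hTV hodd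
      (fun L => ∀ k ∈ K, cj k V = L → e ∈ centralizer (cj k (BTwo.XX V R) : Set G)) ?_ ?_ k0 hk0 v0 hv0 w0 hw0)
    · intro k hk l hl h1 h2 a ha c hc'
      exact ab e a (HT.LemE.cj_le b.toBT hr g1 (hKr k hk) (h1 k hk rfl) ha) c
        (HT.LemE.cj_le b.toBT hr g1 (hKr l hl) (h2 l hl rfl) hc')
    · have key : ∀ k ∈ K, ¬ (∀ k' ∈ K, cj k' V = cj k V → e ∈ centralizer (cj k' (BTwo.XX V R) : Set G)) →
          ∃ k' ∈ K, cj k' V = cj k V ∧ r * e ∈ centralizer (cj k' (BTwo.XX V R) : Set G) := by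
        intro k hk h
        push Not at h
        obtain ⟨k', hk', e1, hne⟩ := h
        exact ⟨k', hk', e1, (hEk k' hk' e he.1).resolve_left hne⟩
      intro k hk l hl h1 h2 a ha c hc'
      obtain ⟨k', hk', e1, h3⟩ := key k hk h1
      obtain ⟨l', hl', e2, h4⟩ := key l hl h2
      rw [← e1] at ha
      rw [← e2] at hc'
      exact ab (r * e) a (HT.LemE.cj_le b.toBT hr g2 (hKr k' hk') h3 ha) c
        (HT.LemE.cj_le b.toBT hr g2 (hKr l' hl') h4 hc')
  · -- `A ≤ E`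
    have hAE : A ≤ E := hA E hKE he.1
    obtain ⟨y, hy, y', hy', y1, y1', y1''⟩ := hA3
    have hfin : ∀ z ∈ A, z ≠ 1 → z ∈ centralizer (cj k0 (BTwo.XX V R) : Set G) → False := by
      intro z hz hz1 hzk
      have g1 := hAg z hz hz1
      have h1 := HT.LemE.cj_le b.toBT hr g1 (hKr k0 hk0) hzk hw0
      have h2 : z ∈ centralizer (cj 1 (BTwo.XX V R) : Set G) := by
        rw [cj_one]; exact hAX hz
      have h3 := HT.LemE.cj_le b.toBT hr g1 (by rw [one_mul, mul_one]) h2 (by rw [cj_one]; exact hv0)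
      exact hne (ab z _ h3 _ h1)
    rcases hEk k0 hk0 y (hAE hy) with h | h
    · exact hfin y hy y1 h
    rcases hEk k0 hk0 y' (hAE hy') with h' | h'
    · exact hfin y' hy' y1' h'
    refine hfin (y * y') (mul_mem hy hy') y1'' ?_
    -- `(r y)(r y') = y y'`
    have hry : r * y = y * r := mem_centralizer_iff.1 (b.CenX_le_cen (hAX hy)) r (b.R_le i hri)
    have e1 : r * y * (r * y') = y * y' := by
      calc r * y * (r * y') = (r * y) * r * y' := by group
        _ = y * (r * r) * y' := by rw [hry]; group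
        _ = y * y' := by rw [hrr, mul_one]
    rw [← e1]
    exact mul_mem h h'

end

end Cfsg.Agent.Omega.IId.Big.Syl

namespace Cfsg.Agent.Omega.IId.Big.Rd

open scoped Pointwise
open Subgroup Cfsg
open Cfsg.Agent.ZN (o2 zc)
open Cfsg.Agent.MinSimple.VModule (le_o2 le_normalizer_o2 mem_zc o2_isPGroup o2_le)
open Triangle (KK KK_conj KK_le_o2 mem_cent mem_KK mem_zpowers_iff_of_sq cent_conj o2_cent_conj)
open Cfsg.Agent.Omega.ThmC

universe u

variable {G : Type u} [Group G]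

variable {S : Sylow 2 G} {Q : Subgroup G} {ι : Type} {Z : ι → Subgroup G} {x z : ι → G}
variable [Finite G] [Finite ι] {D : Dat S Q Z x z} {V : ι → Subgroup G} (R : Rd D V)
include R

/-- a factor of an element of `Ω₁Z(S⁰)` -/
theorem exists_comp (hι : ∀ i : ι, ∃ j, j ≠ i) {i : ι} {e : G} (he : e ∈ zc (S0 (S : Subgroup G) Z)) (he1 : e ≠ 1)
    (hei : e ≠ z i) : ∃ l, l ≠ i ∧ ∃ e' ∈ Vo V l, e = z l * e' := by
  classical
  have := Fintype.ofFinite ι
  set c : ι → Md (S0 (S : Subgroup G) Z) := fun l => D.pX D.E_le D.pr_E l (Md.mk e he) with hc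
  have hsum : ∑ l, c l = Md.mk e he := D.pX_sum (hX := D.E_le) (h := D.pr_E) (Md.mk e he)
  have hcases : ∀ l, (c l).val = 1 ∨ (c l).val = z l := by
    intro l
    obtain ⟨j, hj⟩ := hι l
    exact R.one hj (Md.val_mem _) (D.pX_mem l _)
  have key : ∃ l, l ≠ i ∧ (c l).val = z l := by
    by_contra hcon
    push Not at hcon
    have h0 : ∀ l, l ≠ i → c l = 0 := fun l hl => Md.val_eq_one.1 ((hcases l).resolve_right (hcon l hl))
    have h1 : c i = Md.mk e he := by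
      rw [← hsum]
      exact (Finset.sum_eq_single i (fun l _ hl => h0 l hl) (fun h => absurd (Finset.mem_univ i) h)).symm
    have h2 : (c i).val = e := by rw [h1]; rfl
    rcases hcases i with h | h
    · exact he1 (h2.symm.trans h)
    · exact hei (h2.symm.trans h)
  obtain ⟨l, hl, hcl⟩ := key
  refine ⟨l, hl, (∑ m ∈ Finset.univ.erase l, c m).val, ?_, ?_⟩
  · refine Dat.sum_mem _ _ fun m hm => ?_
    have hml : m ≠ l := Finset.ne_of_mem_erase hm
    rcases hcases m with h | h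
    · rw [h]; exact one_mem _
    · rw [h]; exact le_Vo hml (R.zV m)
  · rw [← hcl, ← Md.val_add, Finset.add_sum_erase _ _ (Finset.mem_univ l), hsum]
    rfl

/-- **(1) for `C(z_i)`-invariant subgroups** -/
theorem exists_le (hι : ∀ i : ι, ∃ j, j ≠ i) {i : ι} {e : G} (he : e ∈ zc (S0 (S : Subgroup G) Z)) (he1 : e ≠ 1)
    (hei : e ≠ z i) : ∃ l, l ≠ i ∧ ∀ Λ : Subgroup G, cz (z i) ≤ normalizer (Λ : Set G) → e ∈ Λ → V l ≤ Λ := by
  obtain ⟨l, hl, e', he', hee⟩ := R.exists_comp hι he he1 hei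
  refine ⟨l, hl, fun Λ hΛ heΛ => ?_⟩
  -- the two other elements of `V l`
  have hother : ∀ b ∈ V l, b ≠ 1 → b ≠ z l → b ∈ Λ := by
    intro b hb hb1 hbz
    obtain ⟨g, hg, hgz⟩ := R.fr.move hb (R.zV l) hb1 (D.z1 l) hbz
    have hgi : g ∈ cz (z i) := R.fr.KK_le (Ne.symm hl) hb hb1 (R.zV i) hg
    have hge' : g * e' * g⁻¹ = e' := conj_of_comm (R.fr.Vo_cent hb hb1 he' (R.fr.KK_le_q hb hb1 hg))
    have h1 : g * e * g⁻¹ = b * e := by
      rw [hee]
      calc g * (z l * e') * g⁻¹ = (g * z l * g⁻¹) * (g * e' * g⁻¹) := by group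
        _ = b * (z l * e') := by rw [hgz, hge']; group
    have h2 : b = g * e * g⁻¹ * e⁻¹ := by rw [h1]; group
    rw [h2]
    exact mul_mem (conj_mem hΛ hgi heΛ) (inv_mem heΛ)
  have hb := R.xV l _ (R.zV l)
  have h1 := hother _ hb (R.bne l) (R.abne l).symm
  have h2 : z l * (x l * z l * (x l)⁻¹) ∈ Λ := by
    refine hother _ (mul_mem (R.zV l) hb) (fun h => ?_) (fun h => R.bne l (mul_eq_left.1 h))
    have h3 := R.fr.sq l _ (R.zV l)
    have h4 : x l * z l * (x l)⁻¹ = z l := by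
      calc x l * z l * (x l)⁻¹ = (z l * z l) * (x l * z l * (x l)⁻¹) := by rw [h3, one_mul]
        _ = z l * (z l * (x l * z l * (x l)⁻¹)) := mul_assoc _ _ _
        _ = z l := by rw [h, mul_one]
    exact R.abne l h4.symm
  have h3 : z l ∈ Λ := by
    have := mul_mem h2 (inv_mem h1)
    rwa [mul_inv_cancel_right] at this
  intro v hv
  rcases R.fr.cases4 (R.zV l) hb (D.z1 l) (R.bne l) (R.abne l) hv with h | h | h | h
  · rw [h]; exact one_mem _
  · rw [h]; exact h3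
  · rw [h]; exact h1
  · rw [h]; exact h2

/-- central involutions of `T ≥ S⁰` -/
theorem mem_E_of {T : Subgroup G} (hT : S0 (S : Subgroup G) Z ≤ T) {e : G} (hee : e * e = 1)
    (heT : ∀ t ∈ T, e * t = t * e) : e ∈ zc (S0 (S : Subgroup G) Z) := by
  have h1 : e ∈ Q := D.CQ (mem_centralizer_iff.2 fun q hq => (heT q (hT (D.Q_le_S0 hq))).symm)
  rw [D.mem_E]
  refine ⟨mem_zc.2 ⟨h1, fun q hq => (heT q (hT (D.Q_le_S0 hq))).symm, by rw [pow_two]; exact hee⟩,
    fun s hs => (heT s (hT hs)).symm⟩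

/-- `r ∈ Z(O₂(C(y)))` for `r ∈ V i`, `1 ≠ y ∈ V l`, `l ≠ i` -/
theorem good {i l : ι} (hl : l ≠ i) {r y : G} (hr : r ∈ V i) (hy : y ∈ V l) (hy1 : y ≠ 1) :
    HT.LemE.Good r y :=
  ⟨R.fr.VQ l i y hy hy1 hr, mem_centralizer_iff.2 fun q hq => R.fr.Qc l i hl.symm y hy hy1 q hq r hr⟩

/-- **LEMMA E over `T` for the block `i`** -/
theorem le_E (hι : ∀ i : ι, ∃ j, j ≠ i) {i : ι} {κ : Type*} {Rp : κ → Subgroup G} (b : BTwo.BTS (V i) Rp) {o : κ}
    (ho : ∀ y, y ∈ Rp o ↔ y = 1 ∨ y = z i) (hX : ∀ l, l ≠ i → V l ≤ BTwo.CenX (V i) Rp)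
    {T : Subgroup G} (hT : IsPGroup 2 T) (hST : S0 (S : Subgroup G) Z ≤ T) (hTV : T ≤ normalizer (V i : Set G))
    (hTR : T ≤ normalizer (Rp o : Set G)) (hodd : ¬ 2 ∣ T.relIndex (normalizer (Rp o : Set G)))
    (hnc : ∃ k ∈ normalizer (Rp o : Set G), ∃ v ∈ V i, ∃ w ∈ BTwo.cj k (V i), v * w ≠ w * v) (j : κ) :
    HTwo.ThmA.LE (V i) Rp j := by
  have hzo : z i ∈ Rp o := (ho _).2 (Or.inr rfl)
  refine Syl.le_T' b (i := o) (r := z i) (fun y hy => (ho y).1 hy) hzo hT hTV hTR hodd hnc ?_ j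
  intro e heT he1 hee hcomm heX
  right
  have heE := R.mem_E_of hST hee hcomm
  have hei : e ≠ z i := by
    intro h0
    -- `z i ∈ C_X`: impossible
    rw [h0] at heX
    obtain ⟨k, hk, -⟩ := b.third o o
    obtain ⟨y, hy, e1⟩ := b.trans_X_one o k
    have h1 : y * z i * y⁻¹ = z i := conj_of_comm (mem_centralizer_iff.1 heX y hy)
    have h2 : z i ∈ Rp k := by
      rw [← e1, ← h1]
      exact ⟨z i, hzo, rfl⟩
    exact D.z1 i (b.eq_one hk h2 hzo)
  obtain ⟨l, hl, hΛ⟩ := R.exists_le hι heE he1 hei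
  have hb := R.xV l _ (R.zV l)
  refine ⟨V l, ⟨z l, R.zV l, x l * z l * (x l)⁻¹, hb, D.z1 l, R.bne l, fun h => ?_⟩, hX l hl,
    fun y hy hy1 => R.good hl (R.zV i) hy hy1, fun Λ h1 h2 => hΛ Λ (le_trans ?_ h1) h2⟩
  · have h3 := R.fr.sq l _ (R.zV l)
    apply R.abne l
    calc z l = z l * (z l * (x l * z l * (x l)⁻¹)) := by rw [h, mul_one]
      _ = (z l * z l) * (x l * z l * (x l)⁻¹) := by group
      _ = x l * z l * (x l)⁻¹ := by rw [h3, one_mul]
  · intro g hg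
    refine IITwo.Count.mem_norm fun y hy => ?_
    rcases (ho y).1 hy with h | h
    · rw [h, mul_one, mul_inv_cancel]
      exact one_mem _
    · rw [h, conj_of_comm (mem_cent.1 hg)]
      exact hzo

end Cfsg.Agent.Omega.IId.Big.Rd
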