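import Cfsg.Agent.Omega.IId.Big.Syl.Inst
import Cfsg.Agent.Omega.IId.Big.Syl.Hle
import Cfsg.Agent.Omega.IId.Big.Cases
import Cfsg.Agent.Omega.HT.EndCore

/-!
# WrBig, `q = 2`, CASE 1, unmixed: the end (bb #18842 (f))

* `Sit.otD` : 924's `OtD` at the line `V_j` over `T` (`X = ⟨KK v : v ∈ V_j#⟩`);
* `Sit.unm_false`; **`unmTwo` : `UnmTwo K`**.
-/

set_option autoImplicit false
set_option linter.unusedSectionVars false

namespace Cfsg.Agent.Omega.IId.Big.Syl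

open Subgroup Pointwise Cfsg Cfsg.Agent.ZN Cfsg.Agent.ZN.ChoiceBase
open Cfsg.Agent.Omega.MinPar Cfsg.Agent.Omega.FFThm Cfsg.Agent.Omega.FrameMulti
open Cfsg.Agent.MinSimple.VModule (o2_isPGroup)
open Triangle (KK KK_conj KK_le_o2 mem_cent mem_KK mem_zpowers_iff_of_sq cent_conj o2_cent_conj)
open Supply
open Cfsg.Agent.Omega.BTwo (BT BTS WW QQ CenX pt)
open Cfsg.Agent.Omega.HT.OtCore (OtD)

universe u

variable {G : Type u} [Group G] [Finite G] {F : Type} [Field F] [Finite F] [CharP F 2] {S : Sylow 2 G}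
  {P : Subgroup G} {k : ℕ} {M : NatK F (S : Subgroup G) P (zl (S : Subgroup G) P) ⊥ k}

/-- `OtD` at the line `V_j`. -/
theorem Sit.otD {j : Fin k} (h : Sit M j) {w : G} (hw : w ∈ line M j) (hw1 : w ≠ 1) :
    OtD (stab M j) (fac M j) (XX (fac M) j) w where
  T_p := h.T2
  T_r t ht := h.T_comm hw ht
  odd := h.odd' hw hw1
  V_T := h.V_T
  V_sq := h.fr.sq j
  V_four v hv hv1 hvw x hx := by
    have hwj := line_le M j hw
    rcases h.fr.cases4 hwj hv hw1 hv1 (Ne.symm hvw) hx with h1 | h1 | h1 | h1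
    · exact Or.inl h1
    · exact Or.inr (Or.inl h1)
    · exact Or.inr (Or.inr (Or.inl h1))
    · exact Or.inr (Or.inr (Or.inr (by rw [h1, h.fr.comm j j w hwj v hv])))
  r_mem := line_le M j hw
  r_ne := hw1
  T_V := h.T_V
  X_V := Sit.XX_V h.fr j
  trans v hv hv1 := Sit.XX_trans h.fr (line_le M j hw) hv hw1 hv1
  zt := by
    obtain ⟨a, ha, b, hb, h1, h2⟩ := h.zt hw hw1
    exact ⟨a, ha, b, hb, h1, fun c hc hc2 hcc => h2 c hc hc2 fun t ht ht' => (hcc t ht ht').symm⟩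

/-- **CASE 1, unmixed.** -/
theorem Sit.unm_false {i : Fin k} (h : Sit M i) {c : G} (hc : c ∈ normalizer (line M i : Set G))
    (hne : ∃ v ∈ fac M i, ∃ w ∈ fac M i, v * (c * w * c⁻¹) ≠ c * w * c⁻¹ * v) : False := by
  obtain ⟨N', o, b, hro, hcen⟩ := h.exists_bts hc hne
  have I : Ins M i (pt N') o := { h with bts := b, ro := hro, cen := hcen }
  have hk := h.k2
  have hLE := Big.hLE h.c2 h.par h.cc h.two (by omega) h.fr b hro hcen h.odd (by
    obtain ⟨v, hv, w, hw, hvw⟩ := hne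
    exact ⟨c, hc, v, hv, _, BTwo.conj_mem_cj hw, hvw⟩)
  obtain ⟨j, hij, hT, h'⟩ := h.exists_swap
  obtain ⟨z, hz, hz1, hzi, hzj⟩ := h.exists_z hij hT h'
  obtain ⟨r, hr, hr1⟩ := exists_line M i
  obtain ⟨w, hw, hw1⟩ := exists_line M j
  have hri := line_le M i hr
  have hwj := line_le M j hw
  have hro' : ∀ x, x ∈ pt N' o ↔ x = 1 ∨ x = r := by
    intro x
    rw [hro, line_eq_zpowers M h.two hr hr1]
    exact mem_zpowers_iff_of_sq (h.fr.sq i r hri)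
  have hz0 := I.mem_Z0 hz hzi
  have hw0 := I.mem_Z0 (hT ▸ h'.line_zc hw) (le_Vo (V := fac M) hij hwj)
  have h1 : OtD (stab M i) (fac M i) (BTwo.XX (fac M i) (pt N')) r := by
    refine HT.EndCore.otD I.htt hro' ?_
    obtain ⟨a, ha, b, hb, h1, h2⟩ := h.zt hr hr1
    exact ⟨a, ha, b, hb, h1, fun c hc hc2 hcc => h2 c hc hc2 fun t ht ht' => (hcc t ht ht').symm⟩
  have h2 : OtD (stab M i) (fac M j) (XX (fac M) j) w := hT ▸ h'.otD hw hw1
  refine HT.EndCore.false_of I.htt hLE hro' h1 hz0 hz1 hw0 hw1 (fun e => hw1 ?_)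
    (fun c hc hs => I.c_one hc hs) h2 (fun x hx => ?_) (fun x hx => ?_) fun H hTH hXH _ _ => ?_
  · exact Sit.eq_one_of_Vo h.fr hwj (e ▸ hzj)
  · exact mem_cent.1 (h.fr.X_le hij.symm hri hx)
  · exact mem_cent.1 (Sit.XX_Vo h.fr hzj hx)
  · exact h'.ot (by rw [hT]; exact hTH) hXH (Sit.XX_V h.fr j) fun v hv u hu hv1 hu1 =>
      Sit.XX_trans h.fr hv hu hv1 hu1

end Cfsg.Agent.Omega.IId.Big.Syl

namespace Cfsg.Agent.Omega.IId.Big

open Subgroup Pointwise Cfsg Cfsg.Agent.ZN Cfsg.Agent.ZN.ChoiceBase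
open Cfsg.Agent.Omega.MinPar Cfsg.Agent.Omega.Frame Cfsg.Agent.Omega.FFThm Cfsg.Agent.Omega.FrameMulti

universe u

/-- **WrBig, `q = 2`, CASE 1, unmixed.** -/
theorem unmTwo {K : Cls.{u}} : UnmTwo K := by
  intro G _ _ S hH P F _ _ _ k M hP hC hF hfr hk i hd ⟨c, hc, a, ha, b, hb, hne⟩
  exact (⟨hH.ctx.char2, hP, hC, hF, hk, hfr, hd⟩ : Syl.Sit M i).unm_false hc ⟨a, ha, b, hb, hne⟩

end Cfsg.Agent.Omega.IId.Big
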