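import Cfsg.Agent.Omega.IId.Big.Syl.Base
import Cfsg.Agent.Omega.HT.End

/-!
# WrBig, `q = 2`, CASE 1: the instance `HTT` over `T = stab M i` (bb #18842 (a))

* `Sit.syl_fac` : `T` is Sylow in `N_G(V_i)`; `Sit.exists_bts` : the entry to `BTS`;
* `Ins M i R o` : `Sit` with the points `R` of `V_i` (`BTS`), `R o = line M i`, `V_j ≤ C(X_i)` for `j ≠ i`;
* `Ins.htt` : `HTT T (T ⊔ X_i) V_i R o`.
-/

set_option autoImplicit false
set_option linter.unusedSectionVars false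

namespace Cfsg.Agent.Omega.IId.Big.Syl

open Subgroup Pointwise Cfsg Cfsg.Agent.ZN Cfsg.Agent.ZN.ChoiceBase
open Cfsg.Agent.Omega.MinPar Cfsg.Agent.Omega.FFThm Cfsg.Agent.Omega.FrameMulti
open Cfsg.Agent.MinSimple.VModule (o2_isPGroup)
open Triangle (KK KK_conj KK_le_o2 mem_cent mem_KK mem_zpowers_iff_of_sq cent_conj o2_cent_conj)
open Supply
open Cfsg.Agent.Omega.BTwo (BT BTS WW QQ CenX pt)

universe u

local notation "cz" v:max => centralizer ({v} : Set _)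
local notation "qz" v:max => ZN.o2 (centralizer ({v} : Set _))

section frame

variable {G : Type u} [Group G] [Finite G] {F : Type} [Field F] [Finite F] [CharP F 2] {S : Sylow 2 G}
  {P : Subgroup G} {k : ℕ} {M : NatK F (S : Subgroup G) P (zl (S : Subgroup G) P) ⊥ k}

namespace Sit

variable {i : Fin k} (h : Sit M i)
include h

theorem T_V : stab M i ≤ normalizer (fac M i : Set G) := stab_normalizes M i

theorem V_T : fac M i ≤ stab M i :=
  ((fac_le M i).trans (h.par.isLoc.zl_le S h.c2)).trans ((MinSimple.VModule.zc_le _).trans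
    (o2_le_stab' h.c2 h.par i))

theorem T_comm {v : G} (hv : v ∈ line M i) {t : G} (ht : t ∈ stab M i) : t * v = v * t :=
  stab_comm_line M h.SP h.two hv ht

theorem T_cz {v : G} (hv : v ∈ line M i) : stab M i ≤ cz v := fun _ ht => mem_cent.2 (h.T_comm hv ht)

theorem odd' {v : G} (hv : v ∈ line M i) (hv1 : v ≠ 1) : ¬ 2 ∣ (stab M i).relIndex (cz v) := by
  rw [← h.norm_line hv hv1]; exact h.odd

/-- `O₂(C(v)) ≤ T` -/
theorem q_T {v : G} (hv : v ∈ line M i) (hv1 : v ≠ 1) : qz v ≤ stab M i := (o2_le_stab h.par h.cc h.two hv hv1).1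

/-- an element of `V_i` fixed by `T` is in the line -/
theorem eq_of_fixed {v x : G} (hv : v ∈ line M i) (hv1 : v ≠ 1) (hx : x ∈ fac M i)
    (hxT : ∀ t ∈ stab M i, t * x = x * t) : x = 1 ∨ x = v := by
  by_contra hcon
  push Not at hcon
  obtain ⟨g, hg, hgx⟩ := h.fr.move (line_le M i hv) hx hv1 hcon.1 (Ne.symm hcon.2)
  have h1 := hxT g (h.q_T hv hv1 (h.fr.KK_le_q (line_le M i hv) hv1 hg))
  rw [h1, mul_inv_cancel_right] at hgx
  exact hv1 (mul_eq_right.1 hgx.symm)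

/-- **`T` is a Sylow 2-subgroup of `N_G(V_i)`.** -/
theorem syl_fac : ¬ 2 ∣ (stab M i).relIndex (normalizer (fac M i : Set G)) := by
  have : Fact (Nat.Prime 2) := ⟨Nat.prime_two⟩
  obtain ⟨v, hv, hv1⟩ := exists_line M i
  obtain ⟨Q, hTQ, hQN, hQ2, hQs⟩ := Half.exists_sylow_le h.T2 (stab_normalizes M i)
  have hQT : Q = stab M i := by
    by_contra hne
    have hlt : stab M i < Q := lt_of_le_of_ne hTQ (Ne.symm hne)
    have hlt' := Lib.GoldschmidtFusion.lt_inf_normalizer hQ2 hlt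
    refine hlt'.not_ge ?_
    have hle : Q ⊓ normalizer (stab M i : Set G) ≤ cz v := by
      intro t ht
      have h1 : t * v * t⁻¹ ∈ fac M i := (mem_normalizer_iff.1 (hQN ht.1) _).1 (line_le M i hv)
      have h0 : ∀ s ∈ stab M i, s * (t * v * t⁻¹) = t * v * t⁻¹ * s := by
        intro s hs
        have h3 : t⁻¹ * s * t ∈ stab M i := by
          have := (mem_normalizer_iff.1 (inv_mem ht.2) s).1 hs
          rwa [inv_inv] at this
        have h4 := h.T_comm hv h3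
        calc s * (t * v * t⁻¹) = t * ((t⁻¹ * s * t) * v) * t⁻¹ := by group
          _ = t * v * t⁻¹ * s := by rw [h4]; group
      rcases h.eq_of_fixed hv hv1 h1 h0 with h2 | h2
      · exact (hv1 (by
          calc v = t⁻¹ * (t * v * t⁻¹) * t := by group
            _ = 1 := by rw [h2]; group)).elim
      · exact mem_cent.2 (comm_of_conj h2)
    -- a 2-subgroup of `C(v)` containing `T`
    have h5 : (Q ⊓ normalizer (stab M i : Set G) : Subgroup G) ≤ stab M i := by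
      have h6 := SideOf.card_dvd_of (h.T_cz hv) (h.odd' hv hv1) (hQ2.to_le inf_le_left) hle
      exact (Subgroup.eq_of_le_of_card_ge hlt'.le (Nat.le_of_dvd Nat.card_pos h6)).ge
    exact h5
  rwa [hQT] at hQs

theorem bOne : BigFour.BOne M i where
  c2T := h.c2
  par := h.par
  cc := h.cc
  QT := MinSimple.VModule.o2_le_of_sylow h.T2 h.odd

/-- **The entry to `BTS`.** -/
theorem exists_bts {c : G} (hc : c ∈ normalizer (line M i : Set G))
    (hne : ∃ v ∈ fac M i, ∃ w ∈ fac M i, v * (c * w * c⁻¹) ≠ c * w * c⁻¹ * v) :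
    ∃ (N' : NatPair.NatMod F (fac M i)) (o : BTwo.Pt N'), BTS (fac M i) (pt N') ∧ pt N' o = line M i ∧
      ∀ j, j ≠ i → fac M j ≤ CenX (fac M i) (pt N') := by
  obtain ⟨N', -, hl, b, hc⟩ := h.bOne.bts h.syl_fac hc hne
  exact ⟨N', ⟨N'.line ![1, 0], ![1, 0], FourSide.vec_ne, rfl⟩, b, hl, hc⟩

/-- **The swap**: `s ∈ N_S(T)`, `s ∉ T`, maps `V_i` to `V_j`, `j ≠ i`, and `N_S(V_j) = T`. -/
theorem exists_swap : ∃ j, j ≠ i ∧ stab M j = stab M i ∧ Sit M j := by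
  have hfact : Fact (Nat.Prime 2) := ⟨Nat.prime_two⟩
  have hSP := h.SP
  have hk := h.k2
  have hcard := card_stab M hSP i
  have hlt : stab M i < (S : Subgroup G) := by
    refine lt_of_le_of_ne (stab_le M i) fun e => ?_
    have h1 : Nat.card (stab M i) = k * Nat.card (stab M i) := by
      nth_rewrite 1 [e]
      exact hcard
    have h2 : 0 < Nat.card (stab M i) := Nat.card_pos
    nlinarith
  obtain ⟨s, ⟨hs, hsn⟩, hsT⟩ := SetLike.exists_of_lt (Lib.GoldschmidtFusion.lt_inf_normalizer S.isPGroup' hlt)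
  have e1 := conj_stab M hSP hs (i := i)
  have e2 := conj_line M hSP hs i
  rw [cj_eq_of_mem_normalizer hsn] at e1
  refine ⟨sg M (hSP hs) i, fun h0 => hsT ⟨hs, (mem_normalizer_fac_iff M (hSP hs)).2 h0⟩, e1.symm, ?_⟩
  refine { h with odd := ?_ }
  rw [← e1, ← e2, ← cj_normalizer]
  have h3 : stab M i ≤ normalizer (line M i : Set G) := stab_normalizes_line M hSP i
  have h4 := Half.card_mul_relIndex h3
  have h5 := Half.card_mul_relIndex (cj_mono s h3)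
  rw [card_cj, card_cj, cj_eq_of_mem_normalizer hsn, ← h4] at h5
  rw [Nat.eq_of_mul_eq_mul_left Nat.card_pos h5]
  exact h.odd

/-- `line M i ≤ zc T` -/
theorem line_zc : line M i ≤ zc (stab M i) := by
  intro v hv
  exact ZN.mem_zc.2 ⟨h.V_T (line_le M i hv), fun t ht => h.T_comm hv ht, by
    rw [pow_two]; exact h.fr.sq i v (line_le M i hv)⟩

omit h in
/-- the elements of `V_i ∩ V^i` -/
theorem eq_one_of_Vo (h : Fr (S : Subgroup G) (fac M)) {i : Fin k} {x : G} (hx : x ∈ fac M i) (hx' : x ∈ Vo (fac M) i) :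
    x = 1 := by
  by_contra hx1
  obtain ⟨b, hb, hb1, hxb⟩ := h.exists_other (i := i) x
  obtain ⟨g, hg, e⟩ := h.move hb hx hb1 hx1 (Ne.symm hxb)
  rw [h.Vo_cent hb hb1 hx' (h.KK_le_q hb hb1 hg), mul_inv_cancel_right] at e
  exact hb1 (mul_eq_right.mp e.symm)

omit h in
/-- `N_S(V_i)` normalises `V^i` -/
theorem T_Vo (h : Fr (S : Subgroup G) (fac M)) (i : Fin k) : stab M i ≤ normalizer (Vo (fac M) i : Set G) := by
  refine norm_of fun t ht x hx => ?_
  have h1 : Vo (fac M) i ≤ (Vo (fac M) i).comap (MulAut.conj t).toMonoidHom := by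
    refine Vo_le fun j hj y hy => ?_
    obtain ⟨l, hl⟩ := h.perm t (stab_le M i ht) j
    have h2 : t * y * t⁻¹ ∈ fac M l := (hl y).1 hy
    have hli : l ≠ i := by
      rintro rfl
      by_cases hy1 : y = 1
      · obtain ⟨y', hy', hy1', -⟩ := h.exists_other (i := j) y
        have h3 : t * y' * t⁻¹ ∈ fac M l := (hl y').1 hy'
        exact hy1' (h.disj hj hy' ((mem_normalizer_iff.1 (stab_normalizes M l ht) y').2 h3))
      · exact hy1 (h.disj hj hy ((mem_normalizer_iff.1 (stab_normalizes M l ht) y).2 h2))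
    exact le_Vo hli h2
  exact h1 hx

/-- the components of an element of `Ω₁Z(T)` in `⟨V_l⟩` -/
theorem split_Vo {v z : G} (hv : v ∈ line M i) (hv1 : v ≠ 1) (hz : z ∈ ⨆ l, fac M l)
    (hzT : ∀ t ∈ stab M i, t * z = z * t) : ∃ a ∈ line M i, ∃ b ∈ Vo (fac M) i, z = a * b := by
  obtain ⟨a, ha, b, hb, hab⟩ := exists_split h.fr i hz
  have h1 : ∀ t ∈ stab M i, t * a = a * t := by
    intro t ht
    have h2 : t * a * t⁻¹ ∈ fac M i := conj_mem h.T_V ht ha
    have h3 : t * b * t⁻¹ ∈ Vo (fac M) i := conj_mem (T_Vo h.fr i) ht hb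
    have h4 : (t * a * t⁻¹) * (t * b * t⁻¹) = a * b := by
      calc (t * a * t⁻¹) * (t * b * t⁻¹) = t * (a * b) * t⁻¹ := by group
        _ = a * b := by rw [← hab]; exact conj_of_comm (hzT t ht)
    have h5 : a⁻¹ * (t * a * t⁻¹) = b * (t * b * t⁻¹)⁻¹ := by
      rw [inv_mul_eq_iff_eq_mul, ← mul_assoc, ← h4, mul_inv_cancel_right]
    have h6 := eq_one_of_Vo h.fr (mul_mem (inv_mem ha) h2) (by rw [h5]; exact mul_mem hb (inv_mem h3))
    exact comm_of_conj (by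
      calc t * a * t⁻¹ = a * (a⁻¹ * (t * a * t⁻¹)) := by group
        _ = a := by rw [h6, mul_one])
  refine ⟨a, ?_, b, hb, hab⟩
  rcases h.eq_of_fixed hv hv1 ha h1 with h2 | h2
  · rw [h2]; exact one_mem _
  · rw [h2]; exact hv

/-- **The element `z`**: `1 ≠ z ∈ Ω₁Z(T)` in `V^i ∩ V^j`. -/
theorem exists_z {j : Fin k} (hij : j ≠ i) (hT : stab M j = stab M i) (h' : Sit M j) :
    ∃ z ∈ zc (stab M i), z ≠ 1 ∧ z ∈ Vo (fac M) i ∧ z ∈ Vo (fac M) j := by
  have hfact : Fact (Nat.Prime 2) := ⟨Nat.prime_two⟩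
  obtain ⟨v, hv, hv1⟩ := exists_line M i
  obtain ⟨w, hw, hw1⟩ := exists_line M j
  have hSP := h.SP
  have hSne : (S : Subgroup G) ≠ ⊥ := by
    intro h0
    have h1 := stab_le M i (h.V_T (line_le M i hv))
    rw [h0, mem_bot] at h1
    exact hv1 h1
  obtain ⟨z₀, hz₀, hz₀1⟩ := (Subgroup.bot_or_exists_ne_one _).resolve_left
    (zc_ne_bot S.isPGroup' hSne)
  have hz₀c := ZN.mem_zc.1 hz₀
  have hTS := stab_le M i
  have hz₀V : z₀ ∈ ⨆ l, fac M l := h.fr.zS hz₀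
  have hz₀T : ∀ t ∈ stab M i, t * z₀ = z₀ * t := fun t ht => hz₀c.2.1 t (hTS ht)
  obtain ⟨a, ha, b, hb, hab⟩ := h.split_Vo hv hv1 hz₀V hz₀T
  have hba : b = a⁻¹ * z₀ := by rw [hab]; group
  have hVoV : ∀ l, Vo (fac M) l ≤ ⨆ l, fac M l := fun l => Vo_le fun m _ => le_iSup (fac M) m
  have hbT : ∀ t ∈ stab M i, t * b = b * t := fun t ht => by
    have h1 := h.T_comm ha ht
    have h2 : t * a⁻¹ = a⁻¹ * t := by
      rw [← mul_inv_eq_iff_eq_mul]
      have : t * a⁻¹ * t⁻¹ = (t * a * t⁻¹)⁻¹ := by group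
      rw [this, conj_of_comm h1]
    rw [hba]
    calc t * (a⁻¹ * z₀) = (t * a⁻¹) * z₀ := by group
      _ = a⁻¹ * (t * z₀) := by rw [h2]; group
      _ = a⁻¹ * z₀ * t := by rw [hz₀T t ht]; group
  obtain ⟨a', ha', b', hb', hab'⟩ := h'.split_Vo hw hw1 (hVoV i hb) (fun t ht => hbT t (hT ▸ ht))
  have hba' : b' = a'⁻¹ * b := by rw [hab']; group
  have hb'i : b' ∈ Vo (fac M) i := by
    rw [hba']; exact mul_mem (inv_mem (le_Vo (V := fac M) hij (line_le M j ha'))) hb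
  have hb'T : ∀ t ∈ stab M i, t * b' = b' * t := fun t ht => by
    have h1 := h'.T_comm ha' (hT.symm ▸ ht : t ∈ stab M j)
    have h2 : t * a'⁻¹ = a'⁻¹ * t := by
      rw [← mul_inv_eq_iff_eq_mul]
      have : t * a'⁻¹ * t⁻¹ = (t * a' * t⁻¹)⁻¹ := by group
      rw [this, conj_of_comm h1]
    rw [hba']
    calc t * (a'⁻¹ * b) = (t * a'⁻¹) * b := by group
      _ = a'⁻¹ * (t * b) := by rw [h2]; group
      _ = a'⁻¹ * b * t := by rw [hbT t ht]; group
  have hVT : (⨆ l, fac M l) ≤ stab M i := by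
    refine iSup_le fun l => ((fac_le M l).trans (h.par.isLoc.zl_le S h.c2)).trans
      ((MinSimple.VModule.zc_le _).trans (o2_le_stab' h.c2 h.par i))
  refine ⟨b', ZN.mem_zc.2 ⟨hVT (hVoV i hb'i), hb'T, by rw [pow_two]; exact h.fr.Vo_sq hb'i⟩, ?_, hb'i, hb'⟩
  intro hb1
  -- `z₀ ∈ V_i V_j`
  apply hz₀1
  have hk := h.k2
  obtain ⟨l, hli, hlj⟩ : ∃ l : Fin k, l ≠ i ∧ l ≠ j := by
    by_contra hcon
    push Not at hcon
    have h1 : (Finset.univ : Finset (Fin k)) ⊆ {i, j} := by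
      intro l _
      rw [Finset.mem_insert, Finset.mem_singleton]
      by_cases hl : l = i
      · exact Or.inl hl
      · exact Or.inr (hcon l hl)
    have h2 := (Finset.card_le_card h1).trans Finset.card_le_two
    rw [Finset.card_univ, Fintype.card_fin] at h2
    omega
  refine eq_one_of_all h.par h.fr (h.par.isLoc.zl_le S h.c2
    ((iSup_le fun l => fac_le M l : (⨆ l, fac M l) ≤ _) hz₀V)) fun m u hu hu1 g hg => ?_
  obtain ⟨s, hs, hsm⟩ := exists_trans M hSP l m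
  have hu' : s⁻¹ * u * s ∈ fac M l := by
    rw [← hsm] at hu
    exact mem_cj.1 hu
  have hu1' : s⁻¹ * u * s ≠ 1 := fun h0 => hu1 (by
    calc u = s * (s⁻¹ * u * s) * s⁻¹ := by group
      _ = 1 := by rw [h0]; group)
  have hg' : s⁻¹ * g * s ∈ KK (s⁻¹ * u * s) := by
    have := KK_conj (h := s⁻¹) hg
    rwa [inv_inv] at this
  have hgq := h.fr.KK_le_q hu' hu1' hg'
  have h1 : s⁻¹ * g * s * a = a * (s⁻¹ * g * s) :=
    h.fr.Qc l i (Ne.symm hli) _ hu' hu1' _ hgq a (line_le M i ha)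
  have h2 : s⁻¹ * g * s * a' = a' * (s⁻¹ * g * s) :=
    h.fr.Qc l j (Ne.symm hlj) _ hu' hu1' _ hgq a' (line_le M j ha')
  have h3 : z₀ = a * a' := by rw [hab, hab', hb1, mul_one]
  have h4 : s⁻¹ * g * s * z₀ = z₀ * (s⁻¹ * g * s) := by
    rw [h3]
    calc s⁻¹ * g * s * (a * a') = (s⁻¹ * g * s * a) * a' := by group
      _ = a * (s⁻¹ * g * s * a') := by rw [h1]; group
      _ = a * a' * (s⁻¹ * g * s) := by rw [h2]; group
  have h5 := hz₀c.2.1 s hs
  have h6 : s⁻¹ * z₀ = z₀ * s⁻¹ := by rw [inv_mul_eq_iff_eq_mul, ← mul_assoc, h5, mul_inv_cancel_right]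
  calc g * z₀ = s * (s⁻¹ * g * s) * (s⁻¹ * z₀) := by group
    _ = s * (s⁻¹ * g * s) * (z₀ * s⁻¹) := by rw [h6]
    _ = s * (s⁻¹ * g * s * z₀) * s⁻¹ := by group
    _ = s * (z₀ * (s⁻¹ * g * s)) * s⁻¹ := by rw [h4]
    _ = (s * z₀) * (s⁻¹ * g) := by group
    _ = z₀ * g := by rw [h5]; group

/-- **(zt)** : `a ∈ T` moves `b ∈ V_i` by `v` and fixes `Ω₁Z(C_T(V_i))` modulo `v`. -/
theorem zt {v : G} (hv : v ∈ line M i) (hv1 : v ≠ 1) : ∃ a ∈ stab M i, ∃ b ∈ fac M i, a * b * a⁻¹ = b * v ∧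
    ∀ c ∈ stab M i, c * c = 1 → (∀ t ∈ stab M i, t ∈ centralizer (fac M i : Set G) → c * t = t * c) →
      a * c * a⁻¹ = c ∨ a * c * a⁻¹ = c * v := by
  have hvi := line_le M i hv
  obtain ⟨b, hb, hb1, hvb⟩ := h.fr.exists_other (i := i) v
  obtain ⟨a, ha, hab⟩ := h.fr.move hvi hb hv1 hb1 hvb
  refine ⟨a, h.q_T hv hv1 (h.fr.KK_le_q hvi hv1 ha), b, hb, by rw [hab, h.fr.comm i i v hvi b hb], ?_⟩
  intro c hc hc2 hcc
  set Ts := stab M i ⊓ centralizer (fac M i : Set G) with hTs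
  have hPTs : o2 P ≤ Ts := by
    refine le_inf (o2_le_stab' h.c2 h.par i) fun x hx => mem_centralizer_iff.2 fun u hu => ?_
    exact ((ZN.mem_zc.1 (h.par.isLoc.zl_le S h.c2 (fac_le M i hu))).2.1 x hx).symm
  have hVTs : fac M i ≤ Ts := le_inf h.V_T fun x hx => mem_centralizer_iff.2 fun u hu => h.fr.comm i i u hu x hx
  have hcV : c ∈ centralizer (fac M i : Set G) :=
    mem_centralizer_iff.2 fun u hu => (hcc u (hVTs hu).1 (hVTs hu).2).symm
  have hcz : c ∈ zc (o2 P) := zc_le_zz h.c2 h.par hPTs (inf_le_left.trans h.TP)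
    (ZN.mem_zc.2 ⟨⟨hc, hcV⟩, fun t ht => (hcc t ht.1 ht.2).symm, by rw [pow_two]; exact hc2⟩)
  have hcq := h.zz_q hvi hv1 hcz
  rcases h.fr.KK_act hvi ha hcq with h1 | h1
  · exact Or.inl h1
  · right
    rw [h1]
    exact (mem_cent.1 ((o2_le _) hcq)).symm

omit h in
/-- `⟨KK v : v ∈ V_i#⟩ ≤ N(V_i)` -/
theorem XX_V (h : Fr (S : Subgroup G) (fac M)) (i : Fin k) : XX (fac M) i ≤ normalizer (fac M i : Set G) := by
  refine XX_le fun v hv hv1 => norm_of fun g hg x hx => ?_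
  rcases h.KK_act hv hg (h.VQ i i v hv hv1 hx) with h1 | h1
  · rw [h1]; exact hx
  · rw [h1]; exact mul_mem hv hx

omit h in
/-- `⟨KK v : v ∈ V_i#⟩` is transitive on `V_i#` -/
theorem XX_trans (h : Fr (S : Subgroup G) (fac M)) {i : Fin k} {v w : G} (hv : v ∈ fac M i) (hw : w ∈ fac M i)
    (hv1 : v ≠ 1) (hw1 : w ≠ 1) : ∃ d ∈ XX (fac M) i, d * v * d⁻¹ = w := by
  by_cases hvw : v = w
  · exact ⟨1, one_mem _, by rw [hvw]; group⟩
  have h2 := h.sq i v hv
  have h1 : w * v ≠ 1 := fun h0 => hvw (by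
    have : v = w⁻¹ := eq_inv_of_mul_eq_one_right h0
    rw [this]
    exact inv_eq_of_mul_eq_one_left (h.sq i w hw))
  have h3 : w * v ≠ v := fun h0 => hw1 (mul_eq_right.1 h0)
  obtain ⟨g, hg, e⟩ := h.move (mul_mem hw hv) hv h1 hv1 h3
  refine ⟨g, KK_le_XX (mul_mem hw hv) h1 hg, ?_⟩
  rw [e, mul_assoc, h2, mul_one]

omit h in
/-- `⟨KK v : v ∈ V_i#⟩` centralises `V^i` -/
theorem XX_Vo (h : Fr (S : Subgroup G) (fac M)) {i : Fin k} {z : G} (hz : z ∈ Vo (fac M) i) :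
    XX (fac M) i ≤ cz z :=
  XX_le fun _ hv hv1 _ hg => mem_cent.2 (h.Vo_cent hv hv1 hz (h.KK_le_q hv hv1 hg))

end Sit

/-- `Sit` with the points `R` of `V_i`. -/
structure Ins (M : NatK F (S : Subgroup G) P (zl (S : Subgroup G) P) ⊥ k) (i : Fin k) {κ : Type*}
    (R : κ → Subgroup G) (o : κ) : Prop extends Sit M i where
  bts : BTS (fac M i) R
  ro : R o = line M i
  cen : ∀ j, j ≠ i → fac M j ≤ CenX (fac M i) R

namespace Ins

variable {i : Fin k} {κ : Type*} {R : κ → Subgroup G} {o : κ} (h : Ins M i R o)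
include h

theorem trans_X (j l : κ) : ∃ x ∈ BTwo.XX (fac M i) R, BTwo.cj x (R j) = R l := h.bts.toBT.trans_X_one j l

theorem card_R (j : κ) : Nat.card (R j) = 2 := by
  obtain ⟨x, -, hx⟩ := h.trans_X o j
  rw [← hx, BTwo.card_cj, h.ro, card_line, h.two]

/-- `X` is transitive on `V_i#` -/
theorem trans_V {v w : G} (hv : v ∈ fac M i) (hw : w ∈ fac M i) (hv1 : v ≠ 1) (hw1 : w ≠ 1) :
    ∃ d ∈ BTwo.XX (fac M i) R, d * v * d⁻¹ = w := by
  obtain ⟨j, hj⟩ := h.bts.R_cov v hv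
  obtain ⟨l, hl⟩ := h.bts.R_cov w hw
  obtain ⟨x, hx, e⟩ := h.trans_X j l
  refine ⟨x, hx, ?_⟩
  have h1 : x * v * x⁻¹ ∈ R l := by rw [← e]; exact BTwo.conj_mem_cj hj
  refine HOneTwo.eq_of_card_two (h.card_R l) hl hw1 h1 (fun h0 => hv1 ?_)
  calc v = x⁻¹ * (x * v * x⁻¹) * x := by group
    _ = 1 := by rw [h0]; group

theorem T_R : stab M i ≤ normalizer (R o : Set G) := by
  rw [h.ro]; exact stab_normalizes_line M h.SP i

theorem comm_zc {x z : G} (hx : x ∈ BTwo.XX (fac M i) R) (hz : z ∈ zc (o2 P)) :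
    x * z * x⁻¹ * z⁻¹ ∈ fac M i := by
  have h1 : BTwo.XX (fac M i) R ≤ BTwo.cenMod (fac M i) (zc (o2 P)) := by
    refine iSup_le fun j w hw => ⟨h.bts.W_le_NV j hw, fun z hz => ?_⟩
    obtain ⟨v, hv, hv1⟩ := h.bts.exists_ne j
    have hvi := h.bts.R_le j hv
    have hzq := h.zz_q hvi hv1 hz
    have hN : normalizer (R j : Set G) = cz v := by
      apply le_antisymm
      · intro g hg
        have h2 := HOneTwo.normalizer_le_cen_of_card (h.card_R j) hg
        exact mem_cent.2 (mem_centralizer_iff.1 h2 v hv).symm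
      · intro g hg
        refine centralizer_le_normalizer _ (mem_centralizer_iff.2 fun y hy => ?_)
        by_cases hy1 : y = 1
        · rw [hy1, one_mul, mul_one]
        · rw [HOneTwo.eq_of_card_two (h.card_R j) hv hv1 hy hy1]
          exact (mem_cent.1 hg).symm
    have hzQ : z ∈ QQ (R j) := by
      change z ∈ ZN.o2 (normalizer (R j : Set G))
      rw [hN]
      exact hzq
    have h3 := h.bts.WQ j hzQ hw
    have e : w * z * w⁻¹ * z⁻¹ = (z * w * z⁻¹ * w⁻¹)⁻¹ := by group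
    rw [e]
    exact inv_mem (h.bts.R_le j h3)
  exact (h1 hx).2 z hz

/-- the member of `P_Z` -/
theorem P_Z {x z : G} (hx : x ∈ stab M i ⊔ BTwo.XX (fac M i) R) (hz : z ∈ zc (stab M i)) :
    x * z * x⁻¹ * z⁻¹ ∈ fac M i := by
  have h1 : stab M i ⊔ BTwo.XX (fac M i) R ≤ BTwo.cenMod (fac M i) (zc (stab M i)) := by
    refine sup_le (fun t ht => ⟨h.T_V ht, fun z hz => ?_⟩) fun x hx =>
      ⟨h.bts.X_le_NV hx, fun z hz => h.comm_zc hx (h.zc_le hz)⟩
    rw [((ZN.mem_zc.1 hz).2.1 t ht), mul_inv_cancel_right, mul_inv_cancel]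
    exact one_mem _
  exact (h1 hx).2 z hz

/-- **(OT)** for `X` -/
theorem loc {H : Subgroup G} (hT : stab M i ≤ H) (hX : BTwo.XX (fac M i) R ≤ H) :
    ZN.o2 H ≤ centralizer (fac M i : Set G) :=
  h.ot hT hX h.bts.X_le_NV fun _ hv _ hw hv1 hw1 => h.trans_V hv hw hv1 hw1

/-- **The instance.** -/
theorem htt : HT.HTT (stab M i) (stab M i ⊔ BTwo.XX (fac M i) R) (fac M i) R o where
  toBT := h.bts.toBT
  card_R := h.card_R
  char2 := h.c2
  S_p := h.T2
  S_odd := by rw [h.ro]; exact h.odd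
  S_V := h.T_V
  S_R := h.T_R
  S_P := le_sup_left
  P_V := sup_le h.T_V h.bts.X_le_NV
  P_trans j := by
    obtain ⟨x, hx, e⟩ := h.trans_X o j
    exact ⟨x, mem_sup_right hx, e⟩
  P_Z _ hx _ hz := h.P_Z hx hz
  loc _ hT hX _ _ := h.loc hT hX

/-- `v ∈ Ω₁Z(T) ∩ V^i` lies in `Z₀` -/
theorem mem_Z0 {z : G} (hz : z ∈ zc (stab M i)) (hzi : z ∈ Vo (fac M) i) :
    z ∈ zc (stab M i) ⊓ centralizer ((stab M i ⊔ BTwo.XX (fac M i) R : Subgroup G) : Set G) := by
  refine ⟨hz, ?_⟩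
  have h1 : Vo (fac M) i ≤ CenX (fac M i) R := Vo_le h.cen
  have h2 : stab M i ⊔ BTwo.XX (fac M i) R ≤ cz z :=
    sup_le (fun t ht => mem_cent.2 ((ZN.mem_zc.1 hz).2.1 t ht)) fun x hx =>
      mem_cent.2 (mem_centralizer_iff.1 (h1 hzi) x hx)
  exact mem_centralizer_iff.2 fun x hx => mem_cent.1 (h2 hx)

/-- **`c' = 1`** (#18372 (1)) -/
theorem c_one {c : G} (hc : c ∈ zc (stab M i) ⊓
    centralizer ((stab M i ⊔ BTwo.XX (fac M i) R : Subgroup G) : Set G)) (hS : HT.Sig (fac M i) R o c) : c = 1 := by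
  have hcz := h.zc_le hc.1
  refine eq_one_of_all h.par h.fr hcz fun j v hv hv1 g hg => ?_
  obtain ⟨v₀, hv₀, hv₀1⟩ := exists_line M i
  have hv₀i := line_le M i hv₀
  by_cases hji : j = i
  · subst hji
    obtain ⟨d, hd, e⟩ := h.trans_V hv hv₀i hv1 hv₀1
    have h1 : d * g * d⁻¹ ∈ stab M j := by
      refine h.q_T hv₀ hv₀1 (h.fr.KK_le_q hv₀i hv₀1 ?_)
      have := KK_conj (h := d) hg
      rwa [e] at this
    have h2 : d * c = c * d := mem_centralizer_iff.1 hc.2 d (mem_sup_right hd)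
    have h3 : (d * g * d⁻¹) * c = c * (d * g * d⁻¹) := (ZN.mem_zc.1 hc.1).2.1 _ h1
    have h4 : d⁻¹ * c = c * d⁻¹ := by rw [inv_mul_eq_iff_eq_mul, ← mul_assoc, h2, mul_inv_cancel_right]
    calc g * c = d⁻¹ * (d * g * d⁻¹) * (d * c) := by group
      _ = d⁻¹ * ((d * g * d⁻¹) * c) * d := by rw [h2]; group
      _ = (d⁻¹ * c) * (d * g) := by rw [h3]; group
      _ = c * g := by rw [h4]; group
  have hgq := h.fr.KK_le_q hv hv1 hg
  have hgV : ∀ x ∈ fac M i, g * x = x * g := fun x hx => h.fr.Qc j i (fun e => hji e.symm) v hv hv1 g hgq x hx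
  have hRV : R o ≤ fac M i := h.bts.R_le o
  have hgN : g ∈ normalizer (R o : Set G) := by
    refine (centralizer_le_normalizer _) ?_
    rw [mem_centralizer_iff]
    exact fun y hy => (hgV y (hRV hy)).symm
  obtain ⟨v₁, hv₁, hv₁1, hvv⟩ := h.fr.exists_other (i := i) v₀
  have hv₁R : v₁ ∉ R o := by
    rw [h.ro]
    intro h0
    exact hvv (mem_line_two M h.two hv₀ hv₀1 h0 |>.resolve_left hv₁1).symm
  have h1 := hS g hgN (fun x hx => mem_sup_left (by rw [conj_of_comm (hgV x hx)]; exact hx)) v₁ hv₁ hv₁R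
  have e1 : (v₁ * c)⁻¹ * g * (v₁ * c) * g⁻¹ = c⁻¹ * (g * c * g⁻¹) := by
    calc (v₁ * c)⁻¹ * g * (v₁ * c) * g⁻¹ = c⁻¹ * v₁⁻¹ * (g * v₁) * c * g⁻¹ := by group
      _ = c⁻¹ * v₁⁻¹ * (v₁ * g) * c * g⁻¹ := by rw [hgV v₁ hv₁]
      _ = c⁻¹ * (g * c * g⁻¹) := by group
  rw [e1] at h1
  have hcq := h.zz_q hv hv1 hcz
  rcases h.fr.KK_act hv hg hcq with h2 | h2
  · exact comm_of_conj h2
  · exfalso
    have h3 : v * c = c * v := (mem_cent.1 ((o2_le _) hcq)).symm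
    rw [h2, h3, inv_mul_cancel_left] at h1
    exact hv1 (h.fr.disj (fun e => hji e) hv (hRV h1))

/-- **`T` is Sylow in `M₀ = ⟨C(Ω₁Z(T)), X⟩`** -/
theorem odd_MZ {j : Fin k} (hij : j ≠ i) (hT : stab M j = stab M i) (h' : Sit M j) :
    ¬ 2 ∣ (stab M i).relIndex (HT.JunAB.MZ (stab M i) (fac M i) R) := by
  obtain ⟨w, hw, hw1⟩ := exists_line M j
  have hwz : w ∈ zc (stab M i) := hT ▸ h'.line_zc hw
  have hw0 := h.mem_Z0 hwz (le_Vo (V := fac M) hij (line_le M j hw))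
  have h1 : HT.JunAB.MZ (stab M i) (fac M i) R ≤ cz w := HT.JunAB.MZ_le h.htt hw0
  have h2 : stab M i ≤ HT.JunAB.MZ (stab M i) (fac M i) R := by
    refine le_trans (fun t ht => mem_centralizer_iff.2 fun z hz => ?_) le_sup_left
    exact ((ZN.mem_zc.1 hz).2.1 t ht).symm
  intro hd
  have h3 := h'.odd' hw hw1
  rw [hT, ← relIndex_mul_relIndex _ _ _ h2 h1] at h3
  exact h3 (hd.mul_right _)

end Ins

end frame

end Cfsg.Agent.Omega.IId.Big.Syl
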