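import Cfsg.Agent.Omega.IId.Big.Cases
import Cfsg.Agent.Omega.IId.Big.Syl.Base
import Cfsg.Agent.Omega.IId.Big.Syl.Hle
import Cfsg.Agent.Omega.IId.BigFour.Mixed
import Cfsg.Agent.Omega.IId.Cv.MixedZ

/-!
# WrBig, `q = 2`, CASE 1 on both sides: the mixed case is impossible (helper994 #17943 (2); helper110 #18842 (e))

`Sit M i`, `Sit M' i'` (`T = stab M i`, `T' = stab M' i'` Sylow 2-subgroups of `N_G(R)`, `R = line M i = line M' i'`),
`⟨V_i^{N(R)}⟩`, `⟨V'_{i'}^{N(R)}⟩` abelian, `[V_i, V'_{i'}] ≠ 1`.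

* `Sit.zc_stab_le` : `Ω₁Z(T) ≤ V`; `Sit.split` : `Ω₁Z(T) ≤ R C(X_i)`, `X_i = grp M {i}`;
* `exists_block` : `stab M l = stab M i` for some `l ≠ i`; `Sit.exists_pair` : `|Ω₁Z(T) ∩ C(X_i)| ≥ 4`;
* `Sit.cent_half` : `V_i ≤ Z(O₂(C_G(z)))` for `1 ≠ z ∈ Ω₁Z(T) ∩ C(X_i)`;
* `mixed_false`, `mixTwo`.
-/

set_option autoImplicit false
set_option linter.unusedSectionVars false

namespace Cfsg.Agent.Omega.IId.Big.Syl

open Subgroup Cfsg Cfsg.Agent.ZN Cfsg.Agent.ZN.ChoiceBase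
open Cfsg.Agent.Lib.SL2Mat
open Cfsg.Agent.Omega.MinPar Cfsg.Agent.Omega.FFThm Cfsg.Agent.Omega.FrameMulti
open Cfsg.Agent.Omega.Frame (Cls)
open Cfsg.Agent.Omega.Mix (RMod LL)
open Cfsg.Agent.Omega.IId.FourSide (pre pre_e vec_ne)
open Cfsg.Agent.Omega.IId.M4 (MixedT nmG toRMod toRMod_line LL_comm exists_cj_eq)
open Cfsg.Agent.Omega.IId.BigFour (BOne stab_le_nmG grp_le_nmG pre_line)
open Cfsg.Agent.Omega.ThmC (Dat S0 Md)

universe u

section side

variable {G : Type u} [Group G] [Finite G] {F : Type} [Field F] [Finite F] [CharP F 2] {S : Sylow 2 G}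
  {P : Subgroup G} {k : ℕ} {M : NatK F (S : Subgroup G) P (zl (S : Subgroup G) P) ⊥ k} {i : Fin k}

/-- The stabiliser of a factor is the stabiliser of another factor. -/
theorem exists_block (hSP : (S : Subgroup G) ≤ P) (hk : 2 ≤ k) (i : Fin k) :
    ∃ l, l ≠ i ∧ stab M l = stab M i := by
  have hfact : Fact (Nat.Prime 2) := ⟨Nat.prime_two⟩
  have hlt : stab M i < (S : Subgroup G) := by
    refine lt_of_le_of_ne (stab_le M i) fun e => ?_
    have h1 := card_stab M hSP i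
    rw [e] at h1
    have h2 : 0 < Nat.card (S : Subgroup G) := Nat.card_pos
    nlinarith
  obtain ⟨s, hs, hsn⟩ := SetLike.exists_of_lt (Lib.GoldschmidtFusion.lt_inf_normalizer S.isPGroup' hlt)
  have h1 := conj_stab M hSP hs.1 i
  have h2 : cj s (stab M i) = stab M i := mem_normalizer_iff_cj.1 hs.2
  refine ⟨sg M (hSP hs.1) i, fun h0 => hsn ?_, ?_⟩
  · exact ⟨hs.1, (mem_normalizer_fac_iff M (hSP hs.1)).2 h0⟩
  · rw [← h1, h2]

namespace Sit

variable (h : Sit M i)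
include h

theorem one : BOne M i where
  c2T := h.c2
  par := h.par
  cc := h.cc
  QT := MinSimple.VModule.o2_le_of_sylow h.T2 h.odd

theorem zl_le_stab (j : Fin k) : zl (S : Subgroup G) P ≤ stab M j :=
  (h.par.isLoc.zl_le S h.c2).trans ((MinSimple.VModule.zc_le _).trans (o2_le_stab' h.c2 h.par j))

/-- **`Ω₁Z(T) ≤ V`** -/
theorem zc_stab_le : zc (stab M i) ≤ zl (S : Subgroup G) P := by
  classical
  have hk := h.k2
  obtain ⟨Z, x, z, D, R, hz⟩ := exists_rd_of_fr h.c2 h.par h.cc h.two (by omega) h.fr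
  have hι : ∀ i : Fin k, ∃ j, j ≠ i := by
    have : Nontrivial (Fin k) := Fin.nontrivial_iff_two_le.2 (by omega)
    exact fun i => exists_ne i
  intro e he
  obtain ⟨h1, h2, h3⟩ := MinSimple.VModule.mem_zc.1 he
  have heE : e ∈ zc (S0 (S : Subgroup G) Z) := R.mem_E_of (T := stab M i) (le_inf Dat.S0_le (R.S0_norm i))
    (by rw [← pow_two]; exact h3) (fun t ht => (h2 t ht).symm)
  set c : Fin k → Md (S0 (S : Subgroup G) Z) := fun l => D.pX D.E_le D.pr_E l (Md.mk e heE) with hcdef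
  have hsum : ∑ l, c l = Md.mk e heE := D.pX_sum (hX := D.E_le) (h := D.pr_E) (Md.mk e heE)
  have hcases : ∀ l, (c l).val = 1 ∨ (c l).val = z l := by
    intro l
    obtain ⟨j, hj⟩ := hι l
    exact R.one hj (Md.val_mem _) (D.pX_mem l _)
  have h4 : (∑ l, c l).val ∈ zl (S : Subgroup G) P := by
    refine Dat.sum_mem _ _ fun l _ => ?_
    rcases hcases l with h5 | h5
    · rw [h5]; exact one_mem _
    · rw [h5]; exact ((line_le M l).trans (fac_le M l)) (hz l)
  rw [hsum] at h4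
  exact h4

/-- `Ω₁Z(T) ≤ R C(grp M {i})` -/
theorem split {f : G} (hf : f ∈ zc (stab M i)) : ∃ u ∈ line M i, ∃ z, f = u * z ∧
    ∀ g ∈ grp M {i}, g * z = z * g := by
  have hfV := h.zc_stab_le hf
  obtain ⟨-, h2, -⟩ := MinSimple.VModule.mem_zc.1 hf
  obtain ⟨a, ha, h3, h4⟩ := exists_component M hfV i
  refine ⟨a, fix_le_line M h.SP ha fun t ht => component_cent M h.SP hfV ha h3 ht (h2 t ht), a⁻¹ * f, by group,
    fun g hg => grp_comm M disjoint_compl_right hg h4⟩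

/-- `|Ω₁Z(T) ∩ C(grp M {i})| ≥ 4` -/
theorem exists_pair : ∃ a d : G, (a ∈ zc (stab M i) ∧ ∀ g ∈ grp M {i}, g * a = a * g) ∧
    (d ∈ zc (stab M i) ∧ ∀ g ∈ grp M {i}, g * d = d * g) ∧ a ≠ 1 ∧ d ≠ 1 ∧ a * d ≠ 1 := by
  have hk := h.k2
  obtain ⟨l, hli, hst⟩ := exists_block (M := M) h.SP (by omega) i
  obtain ⟨a, ha, ha1⟩ := exists_line M l
  have haV : a ∈ zl (S : Subgroup G) P := (line_le M l ha).1
  obtain ⟨j, hji, hjl⟩ := three_blocks hk i l
  -- the element of `Z(S)`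
  obtain ⟨x, hx, hx1, hxS⟩ : ∃ x ∈ zl (S : Subgroup G) P, x ≠ 1 ∧ ∀ s ∈ (S : Subgroup G), s * x = x * s := by
    have hfact : Fact (Nat.Prime 2) := ⟨Nat.prime_two⟩
    have hne : zl (S : Subgroup G) P ≠ ⊥ := fun h0 => ha1 (by rwa [h0, mem_bot] at haV)
    obtain ⟨x, hx, hx1, hxS⟩ := Half.exists_fixed (V := zl (S : Subgroup G) P)
      (isPGroup_of_sq fun x hx => sq M hx) hne S.isPGroup' (h.SP.trans (MinSimple.VModule.le_normalizer_zl _ _))
    exact ⟨x, hx, hx1, fun s hs => comm_of_conj (hxS s hs)⟩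
  obtain ⟨b, hb, hb1, hb2⟩ := exists_component M hx i
  have hbT : ∀ t ∈ stab M i, t * b = b * t := fun t ht =>
    component_cent M h.SP hx hb hb1 ht (hxS t (stab_le M i ht))
  have hj : M.e x j ≠ 0 := fun h0 => hx1 (eq_one_of_cent M hx hxS h0)
  have hdj : M.e (b⁻¹ * x) j = M.e x j := by
    rw [M.mul _ (inv_mem hb.1) _ hx, e_inv M hb.1, Pi.add_apply, Pi.neg_apply, hb.2 j hji, neg_zero, zero_add]
  have haj : M.e a j = 0 := (line_le M l ha).2 j hjl
  have hdV : b⁻¹ * x ∈ zl (S : Subgroup G) P := mul_mem (inv_mem hb.1) hx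
  have hzc : ∀ y ∈ zl (S : Subgroup G) P, (∀ t ∈ stab M i, t * y = y * t) → y ∈ zc (stab M i) := fun y hy hyt =>
    MinSimple.VModule.mem_zc.2 ⟨h.zl_le_stab i hy, hyt, by rw [pow_two]; exact sq M hy⟩
  refine ⟨a, b⁻¹ * x, ⟨hzc a haV fun t ht => ?_, fun g hg => grp_comm M (Set.disjoint_singleton.2 (Ne.symm hli)) hg
    (line_le M l ha)⟩, ⟨hzc _ hdV fun t ht => ?_, fun g hg => grp_comm M disjoint_compl_right hg hb2⟩, ha1, ?_, ?_⟩
  · rw [← hst] at ht
    exact stab_comm_line M h.SP h.two ha ht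
  · have h1 := hbT t ht
    have h2 := hxS t (stab_le M i ht)
    calc t * (b⁻¹ * x) = b⁻¹ * (b * t) * b⁻¹ * x := by group
      _ = b⁻¹ * (t * b) * b⁻¹ * x := by rw [h1]
      _ = b⁻¹ * (t * x) := by group
      _ = b⁻¹ * x * t := by rw [h2]; group
  · intro h0
    apply hj
    rw [← hdj, h0, e_one]; rfl
  · intro h0
    apply hj
    have h1 : M.e (a * (b⁻¹ * x)) j = M.e x j := by
      rw [M.mul _ haV _ hdV, Pi.add_apply, haj, zero_add, hdj]
    rw [← h1, h0, e_one]; rfl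

/-- **`V_i ≤ Z(O₂(C_G(z)))`** for `1 ≠ z ∈ Ω₁Z(T) ∩ C(grp M {i})` -/
theorem cent_half {z : G} (hz : z ∈ zc (stab M i)) (hz1 : z ≠ 1) (hzg : ∀ g ∈ grp M {i}, g * z = z * g) :
    fac M i ≤ ZN.o2 (centralizer ({z} : Set G)) ∧
      ZN.o2 (centralizer ({z} : Set G)) ≤ centralizer (fac M i : Set G) := by
  obtain ⟨-, h2, h3⟩ := MinSimple.VModule.mem_zc.1 hz
  have hT : stab M i ≤ centralizer ({z} : Set G) := fun t ht => mem_centralizer_singleton_iff.2 (h2 t ht)
  have h4 : ZN.o2 (centralizer ({z} : Set G)) ≤ centralizer (fac M i : Set G) := by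
    refine h.ot (D := grp M {i}) hT (fun g hg => mem_centralizer_singleton_iff.2 (hzg g hg))
      (grp_normalizes M {i} {i}) fun v hv w hw hv1 hw1 => exists_grp M hv hw hv1 hw1
  refine ⟨?_, h4⟩
  refine le_trans ?_ (Supply.cz_char2 h.c2 (by rw [← pow_two]; exact h3) hz1)
  refine le_inf (((fac_le M i).trans (h.zl_le_stab i)).trans hT) fun v hv => ?_
  rw [mem_centralizer_iff]
  exact fun x hx => (mem_centralizer_iff.1 (h4 hx) v hv).symm

end Sit

end side

section both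

variable {G : Type u} [Group G] [Finite G] {F F' : Type} [Field F] [Finite F] [CharP F 2]
  [Field F'] [Finite F'] [CharP F' 2] {S S' : Sylow 2 G} {P P' : Subgroup G} {k k' : ℕ}
  {M : NatK F (S : Subgroup G) P (zl (S : Subgroup G) P) ⊥ k}
  {M' : NatK F' (S' : Subgroup G) P' (zl (S' : Subgroup G) P') ⊥ k'} {i : Fin k} {i' : Fin k'}

/-- `MixedT` for `fac M i` and a conjugate of `fac M' i'` -/
theorem mixedT_of (h : Sit M i) (h' : Sit M' i') (hl : line M i = line M' i')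
    (hne : ∃ v ∈ fac M i, ∃ w ∈ fac M' i', v * w ≠ w * v)
    (h1 : ∀ g ∈ normalizer (line M i : Set G), ∀ v ∈ fac M i, ∀ w ∈ fac M i,
      v * (g * w * g⁻¹) = g * w * g⁻¹ * v)
    (h2 : ∀ g ∈ normalizer (line M i : Set G), ∀ v ∈ fac M' i', ∀ w ∈ fac M' i',
      v * (g * w * g⁻¹) = g * w * g⁻¹ * v) :
    ∃ c ∈ normalizer (line M i : Set G), BTwo.cj c (stab M' i') = stab M i ∧
      MixedT (V₂ := BTwo.cj c (fac M' i')) (N₂ := BTwo.cj c (nmG (pre M' i'))) (toRMod (pre M i))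
        ((toRMod (pre M' i')).conj c) (line M i) (stab M i) := by
  set R := line M i with hRdef
  have hfact : Fact (Nat.Prime 2) := ⟨Nat.prime_two⟩
  -- a common Sylow 2-subgroup
  have hT' : stab M' i' ≤ normalizer (R : Set G) := by
    rw [hl]; exact stab_normalizes_line M' h'.SP i'
  have hT : stab M i ≤ normalizer (R : Set G) := stab_normalizes_line M h.SP i
  obtain ⟨c, hc, hcT⟩ : ∃ c ∈ normalizer (R : Set G), BTwo.cj c (stab M' i') = stab M i := by
    refine exists_cj_eq hT hT' h.T2 h'.T2 h.odd ?_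
    rw [hl]; exact h'.odd
  have hcR : BTwo.cj c R = R := BTwo.cj_eq_self_iff.2 hc
  have hM₂ : ∀ w, ((toRMod (pre M' i')).conj c).line w = BTwo.cj c ((toRMod (pre M' i')).line w) := fun w =>
    (toRMod (pre M' i')).conj_line c w
  have eLL : LL (BTwo.cj c (fac M' i')) R R = LL (fac M' i') R R := by
    have e1 := Mix.LL_conj c (fac M' i') R R
    rwa [hcR] at e1
  have cor1 := h.one.cor_nm
  have cor2 : NLFree.Cor R (fac M' i') (normalizer (R : Set G)) (nmG (pre M' i')) := by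
    have := h'.one.cor_nm
    rwa [← hl] at this
  refine ⟨c, hc, hcT, ⟨⟨![1, 0], vec_ne, ?_⟩, ⟨![1, 0], vec_ne, ?_⟩, h.T2, stab_le_nmG h.SP, ?_, hT, h.odd, ?_,
      LL_comm h1, ?_, ?_, ?_⟩⟩
  · rw [toRMod_line, pre_line]
  · have h5 := hM₂ ![1, 0]
    rw [toRMod_line, pre_line, ← hl, hcR] at h5
    exact h5.symm
  · rw [← hcT]
    exact BTwo.cj_mono (stab_le_nmG h'.SP)
  · exact fun K hK hK1 => Mix.char2_normalizer h.c2 hK hK1
  · rw [eLL]
    exact LL_comm h2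
  · rw [eLL]
    obtain ⟨v, hv, w, hw, hvw⟩ := hne
    exact ⟨v, Mix.V_le_LL _ _ hv, w, Mix.V_le_LL _ _ hw, hvw⟩
  · intro K hK k1 k2 k3
    have hc' : c ∈ normalizer (K : Set G) := k3 hc
    have k4 : nmG (pre M' i') ≤ normalizer (K : Set G) := by
      intro x hx
      have h3 := k2 (BTwo.conj_mem_cj (g := c) hx)
      have h4 := mul_mem (mul_mem (inv_mem hc') h3) hc'
      have e : c⁻¹ * (c * x * c⁻¹) * c = x := by group
      rwa [e] at h4
    refine NLFree.nonLoc_mixed h.c2 cor1 cor2 (fun r hr => ?_) hK k3 k1 k4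
    obtain ⟨v, hv, w, hw, hvw⟩ := hne
    have hwQ : w ∈ ZN.o2 (normalizer (line M i : Set G)) := by
      have := h'.one.fac_le_o2 hw
      rwa [← hl] at this
    obtain ⟨v', hv', e⟩ := h.one.line_le_comm hwQ ⟨v, hv, hvw⟩ hr
    exact subset_closure ⟨v', hv', w, hw, e.symm⟩

/-- **The mixed case is impossible** (CASE 1 on both sides, `q = 2`). -/
theorem mixed_false (h : Sit M i) (h' : Sit M' i') (hl : line M i = line M' i')
    (hne : ∃ v ∈ fac M i, ∃ w ∈ fac M' i', v * w ≠ w * v)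
    (h1 : ∀ g ∈ normalizer (line M i : Set G), ∀ v ∈ fac M i, ∀ w ∈ fac M i,
      v * (g * w * g⁻¹) = g * w * g⁻¹ * v)
    (h2 : ∀ g ∈ normalizer (line M i : Set G), ∀ v ∈ fac M' i', ∀ w ∈ fac M' i',
      v * (g * w * g⁻¹) = g * w * g⁻¹ * v) : False := by
  obtain ⟨c, hc, hcT, m⟩ := mixedT_of h h' hl hne h1 h2
  -- the generator of the line
  obtain ⟨r, hr, hr1⟩ := exists_line M i
  have mem_R : ∀ g, g ∈ line M i ↔ g = 1 ∨ g = r := by
    intro g
    constructor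
    · exact fun hg => mem_line_two M h.two hr hr1 hg
    · rintro (rfl | rfl)
      · exact one_mem _
      · exact hr
  set T := stab M i with hTdef
  -- the action of the conjugate of `grp M' {i'}`
  have key' : ∀ f ∈ zc T, ∃ u ∈ line M i, ∃ z, f = u * z ∧
      ∀ g ∈ BTwo.cj c (grp M' {i'}), g * z = z * g := by
    intro f hf
    have hf' : c⁻¹ * f * c ∈ zc (stab M' i') := by
      obtain ⟨h1, h2, h3⟩ := MinSimple.VModule.mem_zc.1 hf
      refine MinSimple.VModule.mem_zc.2 ⟨?_, fun y hy => ?_, ?_⟩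
      · rw [← BTwo.mem_cj, hcT]; exact h1
      · have h4 : c * y * c⁻¹ ∈ T := by rw [← hcT]; exact BTwo.conj_mem_cj hy
        have h5 := h2 _ h4
        calc y * (c⁻¹ * f * c) = c⁻¹ * (c * y * c⁻¹ * f) * c := by group
          _ = c⁻¹ * (f * (c * y * c⁻¹)) * c := by rw [h5]
          _ = c⁻¹ * f * c * y := by group
      · calc (c⁻¹ * f * c) ^ 2 = c⁻¹ * (f ^ 2) * c := by rw [pow_two, pow_two]; group
          _ = 1 := by rw [h3]; group
    obtain ⟨u, hu, z, e, hz⟩ := h'.split hf'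
    refine ⟨c * u * c⁻¹, ?_, c * z * c⁻¹, ?_, fun g hg => ?_⟩
    · rw [← hl] at hu
      exact (mem_normalizer_iff.1 hc u).1 hu
    · calc f = c * (c⁻¹ * f * c) * c⁻¹ := by group
        _ = c * (u * z) * c⁻¹ := by rw [e]
        _ = c * u * c⁻¹ * (c * z * c⁻¹) := by group
    · rw [BTwo.mem_cj] at hg
      have h1 := hz _ hg
      calc g * (c * z * c⁻¹) = c * (c⁻¹ * g * c * z) * c⁻¹ := by group
        _ = c * (z * (c⁻¹ * g * c)) * c⁻¹ := by rw [h1]
        _ = c * z * c⁻¹ * g := by group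
  -- `z`
  obtain ⟨a, d, ⟨haz, hag⟩, ⟨hdz, hdg⟩, ha1, hd1, had⟩ := h.exists_pair
  obtain ⟨z, hz1, hzz, hzg, hzg'⟩ : ∃ z, z ≠ 1 ∧ z ∈ zc T ∧ (∀ g ∈ grp M {i}, g * z = z * g) ∧
      ∀ g ∈ BTwo.cj c (grp M' {i'}), g * z = z * g := by
    obtain ⟨u, hu, x, ex, hx⟩ := key' a haz
    obtain ⟨u', hu', x', ex', hx'⟩ := key' d hdz
    rcases (mem_R u).1 hu with hu2 | hu2
    · rw [hu2, one_mul] at ex
      subst ex
      exact ⟨a, ha1, haz, hag, hx⟩
    rcases (mem_R u').1 hu' with hu2' | hu2'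
    · rw [hu2', one_mul] at ex'
      subst ex'
      exact ⟨d, hd1, hdz, hdg, hx'⟩
    rw [hu2] at ex
    rw [hu2'] at ex'
    refine ⟨a * d, had, mul_mem haz hdz, fun g hg => ?_, fun g hg => ?_⟩
    · have h1 := hag g hg
      have h2 := hdg g hg
      calc g * (a * d) = (g * a) * d := by group
        _ = a * (g * d) := by rw [h1]; group
        _ = a * d * g := by rw [h2]; group
    · -- `a d = x x'`
      have hr2 : r * r = 1 := sq M (line_le M i hr).1
      have hrT : ∀ y ∈ zc T, r * y = y * r := fun y hy =>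
        (MinSimple.VModule.mem_zc.1 hy).2.1 r (h.zl_le_stab i (line_le M i hr).1)
      have e1 : a * d = x * x' := by
        have hxr : x * r = r * x := by
          have h1 := hrT a haz
          rw [ex] at h1
          have h2 : r * (r * x) = r * (x * r) := by rw [h1]; group
          exact (mul_left_cancel h2).symm
        calc a * d = r * (x * r) * x' := by rw [ex, ex']; group
          _ = (r * r) * x * x' := by rw [hxr]; group
          _ = x * x' := by rw [hr2, one_mul]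
      have h1 := hx g hg
      have h2 := hx' g hg
      rw [e1]
      calc g * (x * x') = (g * x) * x' := by group
        _ = x * (g * x') := by rw [h1]; group
        _ = x * x' * g := by rw [h2]; group
  have hzT : ∀ t ∈ T, t * z = z * t := fun t ht => (MinSimple.VModule.mem_zc.1 hzz).2.1 t ht
  obtain ⟨hc1, hc2⟩ := h.cent_half hzz hz1 hzg
  have hconj : ∀ {F : Type} [Field F] [Finite F] [CharP F 2] {S : Sylow 2 G} {P : Subgroup G} {k : ℕ}
      (M : NatK F (S : Subgroup G) P (zl (S : Subgroup G) P) ⊥ k) (i : Fin k)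
      (A : Matrix.SpecialLinearGroup (Fin 2) F), ∃ g ∈ grp M {i},
        ∀ x, g * (pre M i).e x * g⁻¹ = (pre M i).e (NatPair.ap A x) := by
    intro F _ _ _ S P k M i A
    obtain ⟨g, hg, hgA⟩ := Lns.exists_lift M i A
    refine ⟨g, hg, fun x => ?_⟩
    exact ext_fac M (Lns.grp_conj_fac hg ((pre M i).e_mem x)) ((pre M i).e_mem _)
      ((hgA _ ((pre M i).e_mem x).1).trans (by rw [pre_e, pre_e]))
  have hD1 := m.mem_iInf (L := grp M {i}) (fun A => hconj M i A) hzT hzg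
  have hD2 := m.symm.mem_iInf (L := BTwo.cj c (grp M' {i'})) (fun A => by
    obtain ⟨g, hg, h1⟩ := hconj M' i' A
    refine ⟨c * g * c⁻¹, BTwo.conj_mem_cj hg, fun x => ?_⟩
    change c * g * c⁻¹ * (c * (pre M' i').e x * c⁻¹) * (c * g * c⁻¹)⁻¹ =
      c * (pre M' i').e (NatPair.ap A x) * c⁻¹
    rw [← h1]
    group) hzT hzg'
  obtain ⟨p, p', hp, hp', t⟩ := m.two
  refine t.false_of_z hr1 (by rw [hp]; exact mem_R) (by rw [card_fac, h.two]; norm_num)
    (by rw [BTwo.card_cj, card_fac, h'.two]; norm_num) hD1 hD2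
    ⟨hc1 ((line_le M i) hr), fun q hq => ?_⟩
  exact (mem_centralizer_iff.1 (hc2 hq) r ((line_le M i) hr))

end both

/-- **WrBig, `q = 2`, CASE 1, the mixed case.** -/
theorem mixTwo (K : Cls.{u}) : MixTwo K := by
  intro G _ _ S S' hH P P' hp F F' _ _ _ _ _ _ k M M' hC hC' hF hF' hfr hfr' hk i j hl _ hd hd' hne hab hab'
  have h : Sit M i := ⟨hH.ctx.char2, hp.star, hC, hF, hk, hfr, hd⟩
  have h' : Sit M' j := ⟨hH.ctx.char2, hp.star', hC', hF', hk, hfr', hd'⟩
  refine mixed_false h h' hl hne hab ?_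
  rw [hl]
  exact hab'

end Cfsg.Agent.Omega.IId.Big.Syl
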